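import Groth.Agent.SchFinB.Basic
/-!
Pairs, epimorphic restrictions and connectedness on schematic finite spaces.
-/
universe u
open SchFin TensorProduct
set_option linter.style.haveILetI false
set_option backward.isDefEq.respectTransparency false
noncomputable section

namespace Groth.Agent.SchFinB

variable {X : RSpace.{u}}

/-- ring maps out of two rings agreeing below glue to the sections on the common upper bounds -/
theorem exists_lift_pair (hX : X.IsSchematic) {s x y : X.pt} (hx : s ≤ x) (hy : s ≤ y) {T : Type u} [CommRing T]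
    (a : X.ring x →+* T) (b : X.ring y →+* T) (hab : ∀ r, a (X.res hx r) = b (X.res hy r)) :
    ∃ Φ : X.sectRing ((Hom.id X).wedge x y) →+* T,
      (∀ c, Φ (X.resSect x _ (fun _ h => h.1) c) = a c) ∧ ∀ c, Φ (X.resSect y _ (fun _ h => h.2) c) = b c := by
  obtain ⟨Φ, h1, h2⟩ := exists_lift_of_isBCAlong (s := (Hom.id X).subSrc hx y)
    ((hX.2.2 0 s x hx y y (le_refl y)).1) rfl a
    (b.comp (X.evalRing ((Hom.id X).wedge s y) ⟨y, hy, le_refl y⟩)) (fun r => hab r)
  refine ⟨Φ, fun c => h1 c, fun c => ?_⟩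
  refine Eq.trans ?_ ((h2 (X.resSect y _ (fun _ h => h.2) c)).trans ?_)
  · rfl
  · show b (X.res (le_refl y) c) = b c
    rw [X.res_self]

theorem res_epi (hX : X.IsSchematic) {x y : X.pt} (h : x ≤ y) {T : Type u} [CommRing T]
    (g₁ g₂ : X.ring y →+* T) (hg : g₁.comp (X.res h) = g₂.comp (X.res h)) : g₁ = g₂ := by
  obtain ⟨Φ, h1, h2⟩ := exists_lift_pair hX h h g₁ g₂ (fun r => RingHom.congr_fun hg r)
  ext c
  rw [← h1 c, ← h2 c]

/-- two field extensions have a common extension -/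
theorem exists_common_ext (k L₁ L₂ : Type u) [Field k] [Field L₁] [Field L₂] (i₁ : k →+* L₁) (i₂ : k →+* L₂) :
    ∃ (L : Type u) (_ : Field L) (j₁ : L₁ →+* L) (j₂ : L₂ →+* L), j₁.comp i₁ = j₂.comp i₂ := by
  letI := i₁.toAlgebra
  letI := i₂.toAlgebra
  haveI : Nontrivial (L₁ ⊗[k] L₂) :=
    (Algebra.TensorProduct.includeLeft_injective (S := k) (A := L₁) (B := L₂) i₂.injective).nontrivial
  obtain ⟨m, hm⟩ := Ideal.exists_maximal (L₁ ⊗[k] L₂)
  refine ⟨(L₁ ⊗[k] L₂) ⧸ m, Ideal.Quotient.field m, (Ideal.Quotient.mk m).comp Algebra.TensorProduct.includeLeftRingHom,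
    (Ideal.Quotient.mk m).comp Algebra.TensorProduct.includeRight.toRingHom, RingHom.ext fun r => congrArg (Ideal.Quotient.mk m) ?_⟩
  show algebraMap k L₁ r ⊗ₜ[k] (1 : L₂) = (1 : L₁) ⊗ₜ[k] algebraMap k L₂ r
  rw [Algebra.algebraMap_eq_smul_one, Algebra.algebraMap_eq_smul_one, TensorProduct.smul_tmul]

theorem exists_prime_above (hX : X.IsSchematic) {s x y : X.pt} (hx : s ≤ x) (hy : s ≤ y)
    (P : PrimeSpectrum (X.ring x)) (Q : PrimeSpectrum (X.ring y))
    (hPQ : PrimeSpectrum.comap (X.res hx) P = PrimeSpectrum.comap (X.res hy) Q) :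
    ∃ r : PrimeSpectrum (X.sectRing ((Hom.id X).wedge x y)),
      PrimeSpectrum.comap (X.resSect x _ (fun _ h => h.1)) r = P ∧
        PrimeSpectrum.comap (X.resSect y _ (fun _ h => h.2)) r = Q := by
  let p := PrimeSpectrum.comap (X.res hx) P
  obtain ⟨L, _, j₁, j₂, hj⟩ := exists_common_ext p.asIdeal.ResidueField P.asIdeal.ResidueField Q.asIdeal.ResidueField
    (Ideal.ResidueField.map p.asIdeal P.asIdeal (X.res hx) rfl)
    (Ideal.ResidueField.map p.asIdeal Q.asIdeal (X.res hy) (congrArg PrimeSpectrum.asIdeal hPQ))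
  obtain ⟨Φ, h1, h2⟩ := exists_lift_pair hX hx hy (j₁.comp (algebraMap _ P.asIdeal.ResidueField))
    (j₂.comp (algebraMap _ Q.asIdeal.ResidueField)) (fun r => by
      have := RingHom.congr_fun hj (algebraMap _ p.asIdeal.ResidueField r)
      simpa [Ideal.ResidueField.map_algebraMap] using this)
  refine ⟨⟨RingHom.ker Φ, RingHom.ker_isPrime Φ⟩, PrimeSpectrum.ext ?_, PrimeSpectrum.ext ?_⟩
  · ext c
    show Φ _ = 0 ↔ _
    rw [h1, RingHom.comp_apply, map_eq_zero, Ideal.algebraMap_residueField_eq_zero]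
  · ext c
    show Φ _ = 0 ↔ _
    rw [h2, RingHom.comp_apply, map_eq_zero, Ideal.algebraMap_residueField_eq_zero]

theorem pairRel_of_comap_eq (hX : X.IsSchematic)
    (hff : ∀ s a b : X.pt, s ≤ a → s ≤ b → (X.up a ∩ X.up b).Nonempty →
      Module.FaithfullyFlat (X.sectRing (X.up a ∩ X.up b)) ((q : ↥(X.up a ∩ X.up b)) → X.ring q.1))
    {s x y : X.pt} (hx : s ≤ x) (hy : s ≤ y) (P : PrimeSpectrum (X.ring x)) (Q : PrimeSpectrum (X.ring y))
    (hPQ : PrimeSpectrum.comap (X.res hx) P = PrimeSpectrum.comap (X.res hy) Q) :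
    X.PairRel ⟨x, P⟩ ⟨y, Q⟩ := by
  obtain ⟨r, hr1, hr2⟩ := exists_prime_above hX hx hy P Q hPQ
  have hne : (X.up x ∩ X.up y).Nonempty := by
    by_contra hc
    have : Subsingleton (X.sectRing ((Hom.id X).wedge x y)) :=
      ⟨fun a b => Subtype.ext (funext fun q => absurd ⟨q.1, q.2⟩ hc)⟩
    exact r.2.ne_top ((Ideal.eq_top_iff_one _).2
      ((Subsingleton.elim (1 : X.sectRing ((Hom.id X).wedge x y)) 0).symm ▸ r.1.zero_mem))
  haveI := hff s x y hx hy hne
  let r' : PrimeSpectrum (X.sectRing (X.up x ∩ X.up y)) := r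
  obtain ⟨R, hR⟩ := PrimeSpectrum.comap_surjective_of_faithfullyFlat
    (B := (q : ↥(X.up x ∩ X.up y)) → X.ring q.1) r'
  obtain ⟨⟨z, rz⟩, rfl⟩ := PrimeSpectrum.sigmaToPi_bijective (fun q : ↥(X.up x ∩ X.up y) => X.ring q.1) |>.2 R
  refine ⟨z.1, z.2.1, z.2.2, rz, ?_, ?_⟩
  · refine Eq.trans ?_ hr1
    change _ = PrimeSpectrum.comap _ r'
    rw [← hR]
    rfl
  · refine Eq.trans ?_ hr2
    change _ = PrimeSpectrum.comap _ r'
    rw [← hR]
    rfl

theorem pairRel_equivalence (hX : X.IsSchematic)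
    (hff : ∀ s a b : X.pt, s ≤ a → s ≤ b → (X.up a ∩ X.up b).Nonempty →
      Module.FaithfullyFlat (X.sectRing (X.up a ∩ X.up b)) ((q : ↥(X.up a ∩ X.up b)) → X.ring q.1)) :
    Equivalence X.PairRel := by
  refine ⟨fun a => ⟨a.1, le_rfl, le_rfl, a.2, ?_, ?_⟩, fun ⟨z, h1, h2, r, e1, e2⟩ => ⟨z, h2, h1, r, e2, e1⟩, ?_⟩
  · rw [show X.res (le_refl a.1) = RingHom.id _ from RingHom.ext (X.res_self a.1)]; rfl
  · rw [show X.res (le_refl a.1) = RingHom.id _ from RingHom.ext (X.res_self a.1)]; rfl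
  · intro a b c ⟨z, h1, h2, r, e1, e2⟩ ⟨z', h1', h2', r', e1', e2'⟩
    obtain ⟨w, hz, hz', rw', f1, f2⟩ := pairRel_of_comap_eq hX hff h2 h1' r r' (e2.trans e1'.symm)
    refine ⟨w, h1.trans hz, h2'.trans hz', rw', ?_, ?_⟩
    · rw [show X.res (h1.trans hz) = (X.res hz).comp (X.res h1) from RingHom.ext fun c => (X.res_comp h1 hz c).symm,
        PrimeSpectrum.comap_comp_apply, f1, e1]
    · rw [show X.res (h2'.trans hz') = (X.res hz').comp (X.res h2') from RingHom.ext fun c => (X.res_comp h2' hz' c).symm,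
        PrimeSpectrum.comap_comp_apply, f2, e2']

theorem existsUnique_max (hX : X.IsSchematic)
    (hff : ∀ s a b : X.pt, s ≤ a → s ≤ b → (X.up a ∩ X.up b).Nonempty →
      Module.FaithfullyFlat (X.sectRing (X.up a ∩ X.up b)) ((q : ↥(X.up a ∩ X.up b)) → X.ring q.1))
    (c : X.SchPt) :
    ∃! a : X.Pair, Quot.mk X.PairRel a = c ∧ ∀ b : X.Pair, Quot.mk X.PairRel b = c → b.1 ≤ a.1 := by
  have hrel : ∀ a b : X.Pair, Quot.mk X.PairRel a = Quot.mk X.PairRel b → X.PairRel a b := fun a b h =>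
    (pairRel_equivalence hX hff).eqvGen_iff.1 (Quot.eqvGen_exact h)
  obtain ⟨a₀, rfl⟩ := Quot.exists_rep c
  let S : Set X.pt := {p | ∃ b : X.Pair, b.1 = p ∧ Quot.mk X.PairRel b = Quot.mk X.PairRel a₀}
  obtain ⟨p, hp, hmax⟩ := (Set.toFinite S).exists_maximal ⟨a₀.1, a₀, rfl, rfl⟩
  obtain ⟨a, rfl, ha⟩ := hp
  have hup : ∀ b : X.Pair, Quot.mk X.PairRel b = Quot.mk X.PairRel a₀ → b.1 ≤ a.1 := by
    intro b hb
    obtain ⟨z, h1, h2, r, e1, e2⟩ := hrel a b (ha.trans hb.symm)
    have hz : (⟨z, r⟩ : X.Pair).1 ∈ S := by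
      refine ⟨⟨z, r⟩, rfl, (Quot.sound ?_).trans ha⟩
      exact ⟨z, le_rfl, h1, r, by rw [show X.res (le_refl z) = RingHom.id _ from RingHom.ext (X.res_self z)]; rfl, e1⟩
    exact h2.trans (hmax hz h1)
  refine ⟨a, ⟨ha, hup⟩, fun b ⟨hb, hbmax⟩ => ?_⟩
  obtain ⟨z, h1, h2, r, e1, e2⟩ := hrel b a (hb.trans ha.symm)
  have hz : z ≤ a.1 := hup ⟨z, r⟩ ((Quot.sound ⟨z, le_rfl, h2, r,
    by rw [show X.res (le_refl z) = RingHom.id _ from RingHom.ext (X.res_self z)]; rfl, e2⟩).trans ha)
  obtain rfl : z = a.1 := le_antisymm hz h2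
  obtain ⟨bp, bP⟩ := b
  obtain ⟨ap, aP⟩ := a
  obtain rfl : bp = ap := le_antisymm h1 (hbmax ⟨ap, aP⟩ ha)
  rw [show X.res h1 = RingHom.id _ from RingHom.ext (X.res_self bp)] at e1
  rw [show X.res h2 = RingHom.id _ from RingHom.ext (X.res_self bp)] at e2
  exact congrArg (Sigma.mk bp) (e1.symm.trans e2)

theorem bijective_of_epi_faithfullyFlat {A B : Type u} [CommRing A] [CommRing B] [Algebra A B]
    [Module.FaithfullyFlat A B]
    (hepi : ∀ (T : Type u) [CommRing T] (g₁ g₂ : B →+* T), g₁.comp (algebraMap A B) = g₂.comp (algebraMap A B) → g₁ = g₂) :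
    Function.Bijective (algebraMap A B) := by
  refine ⟨FaithfulSMul.algebraMap_injective A B, ?_⟩
  refine (Module.FaithfullyFlat.lTensor_surjective_iff_surjective A B (Algebra.linearMap A B)).1 fun z => ?_
  have h := hepi (B ⊗[A] B) Algebra.TensorProduct.includeLeftRingHom Algebra.TensorProduct.includeRight.toRingHom
    (RingHom.ext fun r => by
      show algebraMap A B r ⊗ₜ[A] (1 : B) = (1 : B) ⊗ₜ[A] algebraMap A B r
      rw [Algebra.algebraMap_eq_smul_one, TensorProduct.smul_tmul])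
  induction z using TensorProduct.induction_on with
  | zero => exact ⟨0, map_zero _⟩
  | tmul c d =>
    refine ⟨(c * d) ⊗ₜ[A] 1, ?_⟩
    rw [LinearMap.lTensor_tmul, Algebra.linearMap_apply, map_one]
    have e : d ⊗ₜ[A] (1 : B) = (1 : B) ⊗ₜ[A] d := RingHom.congr_fun h d
    calc (c * d) ⊗ₜ[A] (1 : B) = (c ⊗ₜ[A] (1 : B)) * (d ⊗ₜ[A] (1 : B)) := by
          rw [Algebra.TensorProduct.tmul_mul_tmul, mul_one]
      _ = c ⊗ₜ[A] d := by rw [e, Algebra.TensorProduct.tmul_mul_tmul, mul_one, one_mul]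
  | add z w hz hw =>
    obtain ⟨a, rfl⟩ := hz
    obtain ⟨b, rfl⟩ := hw
    exact ⟨a + b, map_add _ _ _⟩

theorem bijective_localRingHom (hX : X.IsSchematic) {x y : X.pt} (h : x ≤ y) (P : Ideal (X.ring y)) [P.IsPrime] :
    Function.Bijective (Localization.localRingHom (P.comap (X.res h)) P (X.res h) rfl) := by
  let φ := Localization.localRingHom (P.comap (X.res h)) P (X.res h) rfl
  letI := φ.toAlgebra
  haveI : Module.Flat (Localization.AtPrime (P.comap (X.res h))) (Localization.AtPrime P) :=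
    RingHom.Flat.localRingHom (hX.1.2 x y h) P _ rfl
  haveI : IsLocalHom (algebraMap (Localization.AtPrime (P.comap (X.res h))) (Localization.AtPrime P)) :=
    Localization.isLocalHom_localRingHom (P.comap (X.res h)) P (X.res h) rfl
  haveI := Module.FaithfullyFlat.of_flat_of_isLocalHom (A := Localization.AtPrime (P.comap (X.res h)))
    (B := Localization.AtPrime P)
  refine bijective_of_epi_faithfullyFlat fun T _ g₁ g₂ hg => IsLocalization.ringHom_ext P.primeCompl ?_
  refine res_epi hX h _ _ (RingHom.ext fun r => ?_)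
  have := RingHom.congr_fun hg (algebraMap _ _ r)
  change g₁ (φ (algebraMap _ _ r)) = g₂ (φ (algebraMap _ _ r)) at this
  rw [Localization.localRingHom_to_map] at this
  exact this

theorem surjective_residueFieldMap (hX : X.IsSchematic) {x y : X.pt} (h : x ≤ y) (I : Ideal (X.ring x)) [I.IsPrime]
    (P : Ideal (X.ring y)) [P.IsPrime] (hI : I = P.comap (X.res h)) :
    Function.Surjective (Ideal.ResidueField.map I P (X.res h) hI) := by
  subst hI
  intro z
  obtain ⟨w, rfl⟩ := IsLocalRing.residue_surjective z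
  obtain ⟨v, rfl⟩ := (bijective_localRingHom hX h P).2 w
  exact ⟨IsLocalRing.residue _ v, rfl⟩

theorem bijective_κMap (hX : X.IsSchematic) (a b : X.Pair) (h : a.1 ≤ b.1)
    (hp : PrimeSpectrum.comap (X.res h) b.2 = a.2) : Function.Bijective (RSpace.Pair.κMap a b h hp) :=
  ⟨(RSpace.Pair.κMap a b h hp).injective, surjective_residueFieldMap hX h _ _ _⟩

theorem comap_ne_ker (hX : X.IsSchematic) {Ω : Type u} [Field Ω] [IsAlgClosed Ω] (ξ : GeomPt X Ω) {x' : X.pt}
    (hx : ξ.base < x') (P : Ideal (X.ring x')) [P.IsPrime] : P.comap (X.res hx.le) ≠ RingHom.ker ξ.toField := by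
  intro hP
  let p := P.comap (X.res hx.le)
  let iΩ : p.ResidueField →+* Ω := Ideal.ResidueField.lift p ξ.toField hP.le
    (fun r hr => isUnit_iff_ne_zero.2 fun h0 => hr (hP.ge (RingHom.mem_ker.2 h0)))
  obtain ⟨L, _, j₁, j₂, hj⟩ := exists_common_ext p.ResidueField P.ResidueField Ω
    (Ideal.ResidueField.map p P (X.res hx.le) rfl) iΩ
  obtain ⟨Φ, -, -⟩ := exists_lift_of_isBCAlong (s := ξ.hom.subTgt PUnit.unit hx.le)
    ((ξ.isSchematic.2.2 0 PUnit.unit PUnit.unit le_rfl ξ.base x' hx.le).2) rfl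
    (j₁.comp (algebraMap _ P.ResidueField))
    (j₂.comp ((RSpace.point Ω).evalRing (ξ.hom.wedge PUnit.unit ξ.base) ⟨PUnit.unit, le_rfl, le_rfl⟩))
    (fun r => by
      have h1 := RingHom.congr_fun hj (algebraMap _ p.ResidueField r)
      simp only [RingHom.comp_apply, Ideal.ResidueField.map_algebraMap] at h1
      refine h1.trans (congrArg j₂ ?_)
      rw [Ideal.ResidueField.lift_algebraMap]
      show ξ.toField r = ξ.toField (X.res (le_refl _) r)
      rw [X.res_self])
  have : Subsingleton ((RSpace.point Ω).sectRing (ξ.hom.wedge PUnit.unit x')) := ⟨fun a b => Subtype.ext (funext fun q =>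
    absurd (show x' ≤ ξ.base from q.2.2) (not_le_of_gt hx))⟩
  exact zero_ne_one ((map_zero Φ).symm.trans ((congrArg Φ (Subsingleton.elim _ _)).trans (map_one Φ)))

theorem connectedSpace_iff_idem (R : Type u) [CommRing R] :
    ConnectedSpace (PrimeSpectrum R) ↔ Nontrivial R ∧ ∀ e : R, IsIdempotentElem e → e = 0 ∨ e = 1 := by
  constructor
  · intro hc
    refine ⟨PrimeSpectrum.nonempty_iff_nontrivial.1 hc.toNonempty, fun e he => ?_⟩
    have hcl : IsClopen (PrimeSpectrum.basicOpen e : Set (PrimeSpectrum R)) :=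
      PrimeSpectrum.isClopen_basicOpen_of_mul_add e (1 - e) he.mul_one_sub_self (add_sub_cancel _ _)
    rcases isClopen_iff.1 hcl with h | h
    · left
      have hn : IsNilpotent e := (PrimeSpectrum.basicOpen_eq_bot_iff e).1 (TopologicalSpace.Opens.ext h)
      exact he.eq_zero_of_isNilpotent hn
    · right
      refine PrimeSpectrum.basicOpen_injOn_isIdempotentElem he (show IsIdempotentElem (1 : R) from one_mul 1)
        (TopologicalSpace.Opens.ext ?_)
      rw [h, PrimeSpectrum.basicOpen_one, TopologicalSpace.Opens.coe_top]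
  · rintro ⟨hn, h⟩
    haveI := hn
    haveI : PreconnectedSpace (PrimeSpectrum R) := preconnectedSpace_iff_clopen.2 fun s hs => by
      obtain ⟨e, he, rfl⟩ := PrimeSpectrum.exists_idempotent_basicOpen_eq_of_isClopen hs
      rcases h e he with rfl | rfl
      · left; simp
      · right; simp
    exact ⟨inferInstance⟩

theorem wellConnected_iff :
    X.IsWellConnected ↔ (X.IsTopConnected ∧ X.IsPwConnected) := by
  constructor
  · rintro ⟨hc, hp⟩
    refine ⟨?_, hp⟩
    obtain ⟨hn, hidem⟩ := (connectedSpace_iff_idem _).1 hc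
    have hne : Nonempty X.pt := by
      by_contra hc
      exact not_subsingleton (X.sectRing Set.univ) ⟨fun a b => Subtype.ext (funext fun q => absurd ⟨q.1⟩ hc)⟩
    refine ⟨hne, fun p q => ?_⟩
    classical
    let e : X.sectRing Set.univ := ⟨fun z => if Relation.EqvGen (fun a b : X.pt => a ≤ b) p z.1 then 1 else 0,
      fun z z' h => by
        have hiff : Relation.EqvGen (fun a b : X.pt => a ≤ b) p z.1 ↔ Relation.EqvGen (fun a b : X.pt => a ≤ b) p z'.1 :=
          ⟨fun hh => hh.trans _ _ _ (Relation.EqvGen.rel _ _ h),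
            fun hh => hh.trans _ _ _ ((Relation.EqvGen.rel _ _ h).symm _ _)⟩
        by_cases hz : Relation.EqvGen (fun a b : X.pt => a ≤ b) p z.1
        · simp [hz, hiff.1 hz]
        · simp [hz, mt hiff.2 hz]⟩
    have he : IsIdempotentElem e := Subtype.ext (funext fun z => by
      show (e.1 z) * (e.1 z) = e.1 z
      dsimp only [e]
      split_ifs <;> simp)
    have hat := fun z : X.pt => ((connectedSpace_iff_idem _).1 (hp z)).1
    rcases hidem e he with h | h
    · exfalso
      have h1 := congrFun (congrArg Subtype.val h) ⟨p, trivial⟩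
      haveI := hat p
      dsimp only [e] at h1
      rw [if_pos (Relation.EqvGen.refl p)] at h1
      exact one_ne_zero h1
    · by_contra hc
      have h1 := congrFun (congrArg Subtype.val h) ⟨q, trivial⟩
      haveI := hat q
      dsimp only [e] at h1
      rw [if_neg hc] at h1
      exact zero_ne_one h1
  · rintro ⟨⟨hne, htc⟩, hp⟩
    refine ⟨(connectedSpace_iff_idem _).2 ?_, hp⟩
    have hat := fun z : X.pt => (connectedSpace_iff_idem _).1 (hp z)
    obtain ⟨p⟩ := hne
    refine ⟨⟨0, 1, fun h => ?_⟩, fun e he => ?_⟩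
    · haveI := (hat p).1
      exact zero_ne_one (congrFun (congrArg Subtype.val h) ⟨p, trivial⟩)
    have hz : ∀ z : X.pt, e.1 ⟨z, trivial⟩ = 0 ∨ e.1 ⟨z, trivial⟩ = 1 := fun z =>
      (hat z).2 _ (congrFun (congrArg Subtype.val he) ⟨z, trivial⟩)
    have hstep : ∀ z z' : X.pt, Relation.EqvGen (fun a b : X.pt => a ≤ b) z z' →
        (e.1 ⟨z, trivial⟩ = 0 ↔ e.1 ⟨z', trivial⟩ = 0) := by
      intro z z' hr
      induction hr with
      | rel a b hab =>
        have hres : X.res hab (e.1 ⟨a, trivial⟩) = e.1 ⟨b, trivial⟩ := e.2 ⟨a, trivial⟩ ⟨b, trivial⟩ hab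
        refine ⟨fun h0 => by rw [← hres, h0, map_zero], fun h0 => (hz a).resolve_right fun h1 => ?_⟩
        haveI := (hat b).1
        rw [h1, map_one] at hres
        exact one_ne_zero (hres.trans h0)
      | refl a => rfl
      | symm a b _ ih => exact ih.symm
      | trans a b c _ _ i1 i2 => exact i1.trans i2
    rcases hz p with h0 | h1
    · exact Or.inl (Subtype.ext (funext fun z => (hstep p z.1 (htc p z.1)).1 h0))
    · refine Or.inr (Subtype.ext (funext fun z => (hz z.1).resolve_left fun h => ?_))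
      haveI := (hat p).1
      exact one_ne_zero (h1.symm.trans ((hstep p z.1 (htc p z.1)).2 h))

theorem exists_map_of_algHom_pi {R : Type u} [CommRing R] (hR : ConnectedSpace (PrimeSpectrum R)) {F : Type} [Finite F]
    (f : (F → R) →ₐ[R] R) : ∃! i : F, ∀ g, f g = g i := by
  classical
  have : Fintype F := Fintype.ofFinite F
  obtain ⟨hn, h⟩ := (connectedSpace_iff_idem R).1 hR
  have hcases : ∀ i, f (Pi.single i 1) = 0 ∨ f (Pi.single i 1) = 1 := fun i => h _ (by
    show _ * _ = _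
    rw [← map_mul, ← Pi.single_mul, mul_one])
  have hsum : ∀ g : F → R, f g = ∑ i, g i * f (Pi.single i 1) := fun g => by
    conv_lhs => rw [show g = ∑ i, g i • Pi.single i (1 : R) from funext fun j => by simp [Finset.sum_apply, Pi.single_apply]]
    rw [map_sum]
    exact Finset.sum_congr rfl fun i _ => by rw [map_smul, smul_eq_mul]
  obtain ⟨i, hi⟩ : ∃ i, f (Pi.single i 1) = 1 := by
    by_contra hc
    push Not at hc
    have := hsum 1
    rw [map_one, Finset.sum_eq_zero fun i _ => by rw [(hcases i).resolve_right (hc i), mul_zero]] at this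
    exact one_ne_zero this
  have hothers : ∀ j, j ≠ i → f (Pi.single j 1) = 0 := fun j hj => by
    refine (hcases j).resolve_right fun h1 => one_ne_zero (α := R) ?_
    have h2 : f (Pi.single j 1 * Pi.single i 1) = 1 := by rw [map_mul, h1, hi, mul_one]
    rw [show (Pi.single j 1 : F → R) * Pi.single i 1 = 0 from funext fun k => by
      rcases eq_or_ne k j with rfl | hk
      · simp [hj]
      · simp [hk], map_zero] at h2
    exact h2.symm
  refine ⟨i, fun g => ?_, fun j hj => ?_⟩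
  · rw [hsum g, Finset.sum_eq_single i (fun j _ hj => by rw [hothers j hj, mul_zero]) (by simp), hi, mul_one]
  · by_contra hne
    have := hj (Pi.single j 1)
    rw [hothers j hne, Pi.single_eq_same] at this
    exact zero_ne_one this

theorem exists_apply_eq_comp (hW : X.IsWellConnected) (F E : Type) [Finite F] [Finite E]
    (f : ∀ p : X.pt, (F → X.ring p) →ₐ[X.ring p] (E → X.ring p))
    (hf : ∀ (p q : X.pt) (h : p ≤ q) (g : F → X.ring p) (e : E),
      X.res h (f p g e) = f q (fun i => X.res h (g i)) e) :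
    ∃ φ : E → F, ∀ (p : X.pt) (g : F → X.ring p) (e : E), f p g e = g (φ e) := by
  classical
  obtain ⟨⟨hne, htc⟩, hp⟩ := wellConnected_iff.1 hW
  choose ψ hψ hψu using fun (p : X.pt) (e : E) =>
    exists_map_of_algHom_pi (hp p) ((Pi.evalAlgHom (X.ring p) (fun _ : E => X.ring p) e).comp (f p))
  obtain ⟨p₀⟩ := hne
  refine ⟨ψ p₀, fun p g e => ?_⟩
  suffices h : ∀ a b, Relation.EqvGen (fun a b : X.pt => a ≤ b) a b → ψ a e = ψ b e by
    rw [h p₀ p (htc p₀ p)]
    exact hψ p e g
  intro a b hr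
  induction hr with
  | rel a b hab =>
    by_contra hne'
    haveI := ((connectedSpace_iff_idem _).1 (hp b)).1
    have h1 : f a (Pi.single (ψ a e) 1) e = 1 := (hψ a e _).trans (Pi.single_eq_same (M := fun _ => X.ring a) _ _)
    have h2 := hf a b hab (Pi.single (ψ a e) 1) e
    rw [h1, map_one] at h2
    have h3 : f b (fun i => X.res hab ((Pi.single (ψ a e) (1 : X.ring a) : F → X.ring a) i)) e = 0 := by
      refine (hψ b e _).trans ?_
      rw [Pi.single_eq_of_ne (Ne.symm hne'), map_zero]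
    exact one_ne_zero (h2.trans h3)
  | refl a => rfl
  | symm a b _ ih => exact ih.symm
  | trans a b c _ _ i1 i2 => exact i1.trans i2

end Groth.Agent.SchFinB
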