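import Mathlib
import Groth.Prelude.Def_SchFin2

/-!
# Pointwise properties of a quasi-coherent algebra on an affine set, and of its ring of sections
-/

universe u

open SchFin TensorProduct

set_option linter.style.haveILetI false

namespace Groth.Agent.SchFinB.SectMap

/-- change of the ring of sections along an isomorphism -/
lemma isBCAlong_transfer {R R' S M M' N : Type u} [CommRing R] [CommRing R'] [CommRing S]
    [AddCommGroup M] [AddCommGroup M'] [AddCommGroup N] [Module R M] [Module R' M'] [Module S N]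
    (e : R' ≃+* R) (h : M' ≃+ M) (hh : ∀ r m, h (r • m) = e r • h m)
    (g : R →+* S) (g' : R' →+* S) (hg : ∀ r, g' r = g (e r))
    (f : M →ₛₗ[g] N) (f' : M' →ₛₗ[g'] N) (hf : ∀ m, f' m = f (h m))
    (H : IsBCAlong g' f') : IsBCAlong g f := by
  letI : Algebra R S := g.toAlgebra
  letI : Module R N := Module.compHom N g
  haveI : IsScalarTower R S N := IsScalarTower.of_algebraMap_smul fun _ _ => rfl
  letI : Algebra R' S := g'.toAlgebra
  letI : Module R' N := Module.compHom N g'
  haveI : IsScalarTower R' S N := IsScalarTower.of_algebraMap_smul fun _ _ => rfl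
  have H' : IsBaseChange S
      ({ toFun := f', map_add' := f'.map_add, map_smul' := f'.map_smulₛₗ } : M' →ₗ[R'] N) := H
  apply IsBaseChange.of_lift_unique
  intro Q _ _ _ _ ψ
  letI : Module R' Q := Module.compHom Q g'
  haveI : IsScalarTower R' S Q := IsScalarTower.of_algebraMap_smul fun _ _ => rfl
  let ψ' : M' →ₗ[R'] Q :=
    { toFun := fun m => ψ (h m)
      map_add' := fun a b => by rw [map_add, map_add]
      map_smul' := fun r m => by
        show ψ (h (r • m)) = g' r • ψ (h m)
        rw [hh, map_smul, hg]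
        exact (algebraMap_smul S (e r) _).symm }
  refine ⟨H'.lift ψ', LinearMap.ext fun m => ?_, fun L hL => ?_⟩
  · have := H'.lift_eq ψ' (h.symm m)
    show H'.lift ψ' (f m) = ψ m
    have e1 : f' (h.symm m) = f m := by rw [hf, h.apply_symm_apply]
    rw [← e1]
    exact this.trans (congrArg ψ (h.apply_symm_apply m))
  · apply H'.algHom_ext
    intro m
    rw [H'.lift_eq ψ' m]
    show L (f' m) = ψ (h m)
    rw [hf]
    exact LinearMap.congr_fun hL (h m)

/-- on an affine up-closed set a quasi-coherent module is recovered from its sections -/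
theorem isBCAlong_evalMod {X : RSpace.{u}} {U : Set X.pt} (hUa : (X.restrict U).IsAffine)
    (M : OMod X) (hM : M.IsQcoh) (q : U) : IsBCAlong (X.evalRing U q) (M.evalMod U q) := by
  let er : (X.restrict U).sectRing Set.univ ≃+* X.sectRing U :=
    { toFun := fun s => ⟨fun p => s.1 ⟨p, trivial⟩, fun p p' h => s.2 ⟨p, trivial⟩ ⟨p', trivial⟩ h⟩
      invFun := fun s => ⟨fun p => s.1 p.1, fun p p' h => s.2 p.1 p'.1 h⟩
      left_inv := fun _ => rfl
      right_inv := fun _ => rfl
      map_mul' := fun _ _ => rfl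
      map_add' := fun _ _ => rfl }
  let eh : (M.restrict U).sect Set.univ ≃+ M.sect U :=
    { toFun := fun s => ⟨fun p => s.1 ⟨p, trivial⟩, fun p p' h => s.2 ⟨p, trivial⟩ ⟨p', trivial⟩ h⟩
      invFun := fun s => ⟨fun p => s.1 p.1, fun p p' h => s.2 p.1 p'.1 h⟩
      left_inv := fun _ => rfl
      right_inv := fun _ => rfl
      map_add' := fun _ _ => rfl }
  exact isBCAlong_transfer er eh (fun _ _ => rfl) _ _ (fun _ => rfl) _ _ (fun _ => rfl)
    (hUa.2.2.1 (M.restrict U) (fun p p' h => hM p.1 p'.1 h) q)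

section Family

variable {S : Type u} [CommRing S] {ι : Type u} [Finite ι] {O A : ι → Type u}
  [∀ i, CommRing (O i)] [∀ i, Algebra S (O i)] [∀ i, CommRing (A i)] [∀ i, Algebra (O i) (A i)]
  [∀ i, Algebra S (A i)] [∀ i, IsScalarTower S (O i) (A i)]
  {B : Type u} [CommRing B] [Algebra S B] {ev : ∀ i, B →ₐ[S] A i}

/-- the comparison map from the base change of `B` -/
noncomputable def Φ (ev : ∀ i, B →ₐ[S] A i) (i : ι) : O i ⊗[S] B →ₐ[O i] A i :=
  Algebra.TensorProduct.lift (Algebra.ofId (O i) (A i)) (ev i) fun _ _ => Commute.all _ _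

lemma Φ_bijective {i : ι} (h : IsBaseChange (O i) (ev i).toLinearMap) :
    Function.Bijective (Φ (O := O) ev i) := by
  have e : ∀ z, Φ (O := O) ev i z = h.equiv z := by
    intro z
    induction z using TensorProduct.induction_on with
    | zero => simp
    | tmul a b =>
      rw [IsBaseChange.equiv_tmul, Φ, Algebra.TensorProduct.lift_tmul, Algebra.smul_def]
      rfl
    | add a b ha hb => simp only [map_add, ha, hb]
  rw [show ⇑(Φ (O := O) ev i) = ⇑h.equiv from funext e]
  exact h.equiv.bijective

/-- the base change of `B` at a point -/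
noncomputable def equivPt {i : ι} (h : IsBaseChange (O i) (ev i).toLinearMap) :
    O i ⊗[S] B ≃ₐ[O i] A i :=
  AlgEquiv.ofBijective (Φ ev i) (Φ_bijective h)

theorem finite_pt (h : ∀ i, IsBaseChange (O i) (ev i).toLinearMap) [Module.Finite S B] (i : ι) :
    Module.Finite (O i) (A i) :=
  Module.Finite.equiv (equivPt (h i)).toLinearEquiv

theorem flat_pt (h : ∀ i, IsBaseChange (O i) (ev i).toLinearMap) [Module.Flat S B] (i : ι) :
    Module.Flat (O i) (A i) :=
  Module.Flat.of_linearEquiv (equivPt (h i)).toLinearEquiv.symm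

theorem faithfullyFlat_pt (h : ∀ i, IsBaseChange (O i) (ev i).toLinearMap)
    [Module.FaithfullyFlat S B] (i : ι) : Module.FaithfullyFlat (O i) (A i) :=
  Module.FaithfullyFlat.of_linearEquiv _ _ (equivPt (h i)).toLinearEquiv.symm

theorem etale_pt (h : ∀ i, IsBaseChange (O i) (ev i).toLinearMap) [Algebra.Etale S B] (i : ι) :
    Algebra.Etale (O i) (A i) :=
  Algebra.Etale.of_equiv (equivPt (h i))

variable (O A) in
/-- a member of the family as an algebra over the product -/
@[reducible] noncomputable def piAlg (i : ι) : Algebra (∀ j, O j) (A i) :=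
  ((algebraMap (O i) (A i)).comp (Pi.evalRingHom O i)).toAlgebra

/-- the base change of `B` to the product -/
theorem exists_equiv (h : ∀ i, IsBaseChange (O i) (ev i).toLinearMap) :
    letI := piAlg O A
    Nonempty ((∀ i, O i) ⊗[S] B ≃ₐ[∀ i, O i] (∀ i, A i)) := by
  classical
  letI := piAlg O A
  haveI : ∀ i, IsScalarTower S (∀ j, O j) (A i) := fun i => IsScalarTower.of_algebraMap_eq fun s => by
    show algebraMap S (A i) s = algebraMap (O i) (A i) (algebraMap S (O i) s)
    exact IsScalarTower.algebraMap_apply S (O i) (A i) s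
  haveI : IsScalarTower S (∀ j, O j) (∀ i, A i) :=
    ⟨fun s g x => funext fun i => smul_assoc s (g i) (x i)⟩
  cases nonempty_fintype ι
  let Ψ : (∀ i, O i) ⊗[S] B →ₐ[∀ i, O i] (∀ i, A i) :=
    Algebra.TensorProduct.lift (Algebra.ofId _ _) (AlgHom.pi ev) fun _ _ => Commute.all _ _
  refine ⟨AlgEquiv.ofBijective Ψ ?_⟩
  let σ : (∀ i, O i) ⊗[S] B ≃ₗ[S] ∀ i, B ⊗[S] O i :=
    TensorProduct.comm S _ _ ≪≫ₗ TensorProduct.piRight S S B O
  have e : ∀ z, Ψ z = fun i => Φ (O := O) ev i (TensorProduct.comm S B (O i) (σ z i)) := by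
    intro z
    induction z using TensorProduct.induction_on with
    | zero => funext i; simp
    | tmul a b =>
      funext i
      simp only [Ψ, σ, Φ, Algebra.TensorProduct.lift_tmul, LinearEquiv.trans_apply,
        TensorProduct.comm_tmul, TensorProduct.piRight_apply, TensorProduct.piRightHom_tmul]
      rfl
    | add a b ha hb =>
      funext i
      simp only [map_add, ha, hb, Pi.add_apply]
  rw [show ⇑Ψ = (fun (v : ∀ i, B ⊗[S] O i) i => Φ (O := O) ev i (TensorProduct.comm S B (O i) (v i))) ∘ σ
    from funext e]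
  exact (Function.Bijective.piMap fun i =>
    (Φ_bijective (h i)).comp (TensorProduct.comm S B (O i)).bijective).comp σ.bijective

/-- the two structures of algebra over the product on a product agree -/
lemma pi_algebra_eq :
    letI := piAlg O A
    (Pi.algebra ι A : Algebra (∀ j, O j) (∀ i, A i)) = Pi.instAlgebraForall A O :=
  Algebra.algebra_ext _ _ fun _ => rfl

lemma isLocalizationAway_eval [DecidableEq ι] (i : ι) :
    letI := (Pi.evalRingHom O i).toAlgebra
    IsLocalization.Away (Pi.single i (1 : O i) : ∀ j, O j) (O i) := by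
  letI := (Pi.evalRingHom O i).toAlgebra
  apply IsLocalization.away_of_isIdempotentElem
  · simp [IsIdempotentElem, ← Pi.single_mul_left]
  · apply RingHom.ker_evalRingHom
  · apply (Pi.evalRingHom O i).surjective

variable [Module.FaithfullyFlat S (∀ i, O i)]

theorem finite_of_pt (h : ∀ i, IsBaseChange (O i) (ev i).toLinearMap)
    [∀ i, Module.Finite (O i) (A i)] : Module.Finite S B := by
  classical
  letI := piAlg O A
  obtain ⟨E⟩ := exists_equiv h
  haveI : ∀ i, Module.Finite (∀ j, O j) (A i) := fun i => by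
    letI := (Pi.evalRingHom O i).toAlgebra
    haveI : IsScalarTower (∀ j, O j) (O i) (A i) := IsScalarTower.of_algebraMap_eq fun _ => rfl
    haveI : Module.Finite (∀ j, O j) (O i) :=
      Module.Finite.of_surjective (Algebra.linearMap (∀ j, O j) (O i)) (Pi.evalRingHom O i).surjective
    exact Module.Finite.trans (O i) (A i)
  haveI : Module.Finite (∀ j, O j) (∀ i, A i) := by
    have h1 : @Module.Finite (∀ j, O j) (∀ i, A i) _ _
        (@Algebra.toModule _ _ _ _ (Pi.algebra ι A)) :=
      (inferInstance : @Module.Finite (∀ j, O j) (∀ i, A i) _ _ (Pi.module ι A (∀ j, O j)))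
    rw [pi_algebra_eq] at h1
    exact h1
  haveI : Module.Finite (∀ j, O j) ((∀ j, O j) ⊗[S] B) := Module.Finite.equiv E.symm.toLinearEquiv
  exact Module.Finite.of_finite_tensorProduct_of_faithfullyFlat (∀ j, O j)

theorem flat_of_pt (h : ∀ i, IsBaseChange (O i) (ev i).toLinearMap)
    [∀ i, Module.Flat (O i) (A i)] : Module.Flat S B := by
  haveI : ∀ i, Module.Flat S (O i) := fun i => by
    classical
    letI := (Pi.evalRingHom O i).toAlgebra
    haveI := isLocalizationAway_eval (O := O) i
    haveI : IsScalarTower S (∀ j, O j) (O i) := IsScalarTower.of_algebraMap_eq fun _ => rfl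
    haveI : Module.Flat (∀ j, O j) (O i) :=
      IsLocalization.flat (O i) (Submonoid.powers (Pi.single i (1 : O i) : ∀ j, O j))
    exact Module.Flat.trans S (∀ j, O j) (O i)
  classical
  letI := piAlg O A
  obtain ⟨E⟩ := exists_equiv h
  haveI : ∀ i, Module.Flat (∀ j, O j) (A i) := fun i => by
    letI := (Pi.evalRingHom O i).toAlgebra
    haveI := isLocalizationAway_eval (O := O) i
    haveI : IsScalarTower (∀ j, O j) (O i) (A i) := IsScalarTower.of_algebraMap_eq fun _ => rfl
    haveI : Module.Flat (∀ j, O j) (O i) :=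
      IsLocalization.flat (O i) (Submonoid.powers (Pi.single i (1 : O i) : ∀ j, O j))
    exact Module.Flat.trans (∀ j, O j) (O i) (A i)
  cases nonempty_fintype ι
  haveI : Module.Flat (∀ j, O j) (∀ i, A i) := by
    have h0 : @Module.Flat (∀ j, O j) (∀ i, A i) _ _ (Pi.module ι A (∀ j, O j)) :=
      @Module.Flat.of_linearEquiv (∀ j, O j) (DirectSum ι A) (∀ i, A i) _ _ _ _
        (Pi.module ι A (∀ j, O j)) inferInstance
        (DirectSum.linearEquivFunOnFintype (∀ j, O j) ι A).symm
    have h1 : @Module.Flat (∀ j, O j) (∀ i, A i) _ _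
        (@Algebra.toModule _ _ _ _ (Pi.algebra ι A)) := h0
    rw [pi_algebra_eq] at h1
    exact h1
  haveI : Module.Flat (∀ j, O j) ((∀ j, O j) ⊗[S] B) := Module.Flat.of_linearEquiv E.toLinearEquiv
  exact Module.Flat.of_flat_tensorProduct S B (∀ j, O j)

theorem etale_of_pt (h : ∀ i, IsBaseChange (O i) (ev i).toLinearMap)
    [∀ i, Algebra.Etale (O i) (A i)] : Algebra.Etale S B := by
  classical
  letI := piAlg O A
  obtain ⟨E⟩ := exists_equiv h
  haveI : ∀ i, Algebra.Etale (∀ j, O j) (A i) := fun i => by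
    letI := (Pi.evalRingHom O i).toAlgebra
    haveI := isLocalizationAway_eval (O := O) i
    haveI : IsScalarTower (∀ j, O j) (O i) (A i) := IsScalarTower.of_algebraMap_eq fun _ => rfl
    haveI : Algebra.Etale (∀ j, O j) (O i) :=
      Algebra.Etale.of_isLocalizationAway (Pi.single i (1 : O i) : ∀ j, O j)
    exact Algebra.Etale.comp _ (O i) (A i)
  haveI hpi : Algebra.Etale (∀ j, O j) (∀ i, A i) := by
    have h1 : @Algebra.Etale (∀ j, O j) (∀ i, A i) _ _ (Pi.algebra ι A) := inferInstance
    rw [pi_algebra_eq] at h1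
    exact h1
  haveI : Algebra.Etale (∀ j, O j) ((∀ j, O j) ⊗[S] B) := Algebra.Etale.of_equiv E.symm
  exact Algebra.Etale.of_etale_tensorProduct_of_faithfullyFlat (∀ j, O j)

theorem faithfullyFlat_of_pt (h : ∀ i, IsBaseChange (O i) (ev i).toLinearMap)
    [∀ i, Module.FaithfullyFlat (O i) (A i)] : Module.FaithfullyFlat S B := by
  haveI : Module.Flat S B := flat_of_pt h
  refine ⟨fun m hm => fun htop => ?_⟩
  haveI := hm.isPrime
  obtain ⟨P, hP, hPm⟩ := Ideal.exists_isPrime_liesOver_of_faithfullyFlat (B := ∀ i, O i) m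
  haveI := hP
  obtain ⟨⟨i, Q⟩, hQ⟩ := (PrimeSpectrum.sigmaToPi_bijective O).2 ⟨P, hP⟩
  have hQP : Q.asIdeal.comap (Pi.evalRingHom O i) = P := congrArg PrimeSpectrum.asIdeal hQ
  have hmQ : ∀ s ∈ m, algebraMap S (O i) s ∈ Q.asIdeal := fun s hs => by
    have h1 : algebraMap S (∀ j, O j) s ∈ P := by
      rw [hPm.over] at hs
      exact hs
    rw [← hQP] at h1
    exact h1
  obtain ⟨M, hM, hQM⟩ := Ideal.exists_le_maximal Q.asIdeal Q.isPrime.ne_top
  apply Module.FaithfullyFlat.submodule_ne_top (M := A i) hM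
  rw [Ideal.smul_top_eq_map, Submodule.restrictScalars_eq_top_iff, Ideal.eq_top_iff_one]
  have h1 : (1 : B) ∈ m.map (algebraMap S B) := by
    have : (1 : B) ∈ m • (⊤ : Submodule S B) := by rw [htop]; trivial
    rwa [Ideal.smul_top_eq_map] at this
  have h2 := Ideal.mem_map_of_mem (ev i).toRingHom h1
  rw [Ideal.map_map] at h2
  rw [← map_one (ev i)]
  refine (Ideal.map_le_iff_le_comap.mpr fun s hs => ?_ :
    m.map ((ev i).toRingHom.comp (algebraMap S B)) ≤ M.map (algebraMap (O i) (A i))) h2
  rw [Ideal.mem_comap, RingHom.comp_apply, show (ev i).toRingHom (algebraMap S B s) =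
    algebraMap (O i) (A i) (algebraMap S (O i) s) from
      ((ev i).commutes s).trans (IsScalarTower.algebraMap_apply S (O i) (A i) s)]
  exact Ideal.mem_map_of_mem _ (hQM (hmQ s hs))

end Family

/-- the data of the family attached to a quasi-coherent algebra on an affine set -/
theorem main {X : RSpace.{u}} (A : Alg X) (hA : A.IsQcoh) {U : Set X.pt}
    (hUa : (X.restrict U).IsAffine) :
    letI : Algebra (X.sectRing U) (A.total.sectRing U) := (A.sectMap U).toAlgebra
    letI : ∀ q : U, Algebra (X.sectRing U) (X.ring q.1) := fun q => (X.evalRing U q).toAlgebra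
    letI : ∀ q : U, Algebra (X.sectRing U) (A.carrier q.1) :=
      fun q => ((algebraMap (X.ring q.1) (A.carrier q.1)).comp (X.evalRing U q)).toAlgebra
    haveI : ∀ q : U, IsScalarTower (X.sectRing U) (X.ring q.1) (A.carrier q.1) :=
      fun _ => IsScalarTower.of_algebraMap_eq fun _ => rfl
    ∃ ev : ∀ q : U, A.total.sectRing U →ₐ[X.sectRing U] A.carrier q.1,
      ∀ q, IsBaseChange (X.ring q.1) (ev q).toLinearMap := by
  letI : Algebra (X.sectRing U) (A.total.sectRing U) := (A.sectMap U).toAlgebra
  letI : ∀ q : U, Algebra (X.sectRing U) (X.ring q.1) := fun q => (X.evalRing U q).toAlgebra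
  letI : ∀ q : U, Algebra (X.sectRing U) (A.carrier q.1) :=
      fun q => ((algebraMap (X.ring q.1) (A.carrier q.1)).comp (X.evalRing U q)).toAlgebra
  haveI : ∀ q : U, IsScalarTower (X.sectRing U) (X.ring q.1) (A.carrier q.1) :=
      fun _ => IsScalarTower.of_algebraMap_eq fun _ => rfl
  refine ⟨fun q => { A.total.evalRing U q with commutes' := fun _ => rfl }, fun q => ?_⟩
  have h := isBCAlong_evalMod hUa A.toMod hA q
  let eM : A.toMod.sect U ≃+ A.total.sectRing U :=
    { toFun := fun s => ⟨s.1, s.2⟩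
      invFun := fun s => ⟨s.1, s.2⟩
      left_inv := fun _ => rfl
      right_inv := fun _ => rfl
      map_add' := fun _ _ => rfl }
  apply IsBaseChange.of_lift_unique
  intro Q _ _ _ _ ψ
  letI : Module (X.sectRing U) (A.toMod.carrier q.1) :=
    Module.compHom (A.toMod.carrier q.1) (X.evalRing U q)
  haveI : IsScalarTower (X.sectRing U) (X.ring q.1) (A.toMod.carrier q.1) :=
    IsScalarTower.of_algebraMap_smul fun _ _ => rfl
  have H : IsBaseChange (X.ring q.1)
    ({ toFun := A.toMod.evalMod U q, map_add' := (A.toMod.evalMod U q).map_add,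
       map_smul' := (A.toMod.evalMod U q).map_smulₛₗ } :
      A.toMod.sect U →ₗ[X.sectRing U] A.toMod.carrier q.1) := h
  let ψ' : A.toMod.sect U →ₗ[X.sectRing U] Q :=
    { toFun := fun s => ψ (eM s)
      map_add' := fun a b => by rw [map_add, map_add]
      map_smul' := fun r s => by
        rw [RingHom.id_apply, ← map_smul]
        refine congrArg ψ ?_
        apply Subtype.ext
        refine funext fun (p : U) => ?_
        exact @Algebra.smul_def (X.ring p.1) (A.carrier p.1) _ _ _ (r.1 p) (s.1 p) }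
  refine ⟨H.lift ψ', LinearMap.ext fun m => H.lift_eq ψ' (eM.symm m), fun L hL => ?_⟩
  apply H.algHom_ext
  intro m
  exact (LinearMap.congr_fun hL (eM m)).trans (H.lift_eq ψ' m).symm

end Groth.Agent.SchFinB.SectMap
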