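import Groth.Agent.SchFinB.Cover
/-!
Pushouts of etale covers of a finite ringed poset.
-/
universe u
open SchFin TensorProduct CategoryTheory CategoryTheory.Limits
set_option linter.style.haveILetI false
set_option backward.isDefEq.respectTransparency false
noncomputable section

namespace Groth.Agent.SchFinB

variable {X : RSpace.{u}} {A B C : Alg X}

theorem tens_isEtCover (hA : A.IsEtCover) (hB : B.IsEtCover) (hC : C.IsEtCover) (f : C ⟶ A) (g : C ⟶ B) :
    (tensAlg f g).IsEtCover := by
  letI : ∀ p, Algebra (C.carrier p) (A.carrier p) := fun p => (f.app p).toRingHom.toAlgebra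
  letI : ∀ p, Algebra (C.carrier p) (B.carrier p) := fun p => (g.app p).toRingHom.toAlgebra
  haveI : ∀ p, IsScalarTower (X.ring p) (C.carrier p) (A.carrier p) :=
    fun p => IsScalarTower.of_algebraMap_eq fun x => ((f.app p).commutes x).symm
  haveI : ∀ p, IsScalarTower (X.ring p) (C.carrier p) (B.carrier p) :=
    fun p => IsScalarTower.of_algebraMap_eq fun x => ((g.app p).commutes x).symm
  refine ⟨(qcoh_alg_iff _).2 fun p q h => bcAlg_of_univ (fun T _ Φ Φ' h1 h2 => ?_) (fun T _ a b hab => ?_),
    fun p => ?_⟩
  · have hmul : ∀ (x : A.carrier p) (y : B.carrier p), (tensAlg f g).res h (x ⊗ₜ[C.carrier p] y) =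
        (A.res h x ⊗ₜ[C.carrier q] (1 : B.carrier q)) * ((1 : A.carrier q) ⊗ₜ[C.carrier q] B.res h y) := fun x y => rfl
    have e1 : Φ.comp (Algebra.TensorProduct.includeLeftRingHom (R := C.carrier q) (A := A.carrier q) (B := B.carrier q)) =
        Φ'.comp Algebra.TensorProduct.includeLeftRingHom :=
      alg_ext hA.1 h _ _ (fun s => h1 s) fun x => by
        have := h2 (x ⊗ₜ[C.carrier p] (1 : B.carrier p))
        rw [hmul, map_one, Algebra.TensorProduct.tmul_mul_tmul, mul_one, one_mul] at this
        exact this
    have e2 : Φ.comp (Algebra.TensorProduct.includeRight (R := C.carrier q) (A := A.carrier q) (B := B.carrier q)).toRingHom =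
        Φ'.comp Algebra.TensorProduct.includeRight.toRingHom :=
      alg_ext hB.1 h _ _ (fun s => by
        have := h1 s
        show Φ ((1 : A.carrier q) ⊗ₜ[C.carrier q] algebraMap _ _ s) = Φ' ((1 : A.carrier q) ⊗ₜ[C.carrier q] algebraMap _ _ s)
        have e : (1 : A.carrier q) ⊗ₜ[C.carrier q] algebraMap (X.ring q) (B.carrier q) s =
            algebraMap (X.ring q) (A.carrier q) s ⊗ₜ[C.carrier q] (1 : B.carrier q) := by
          rw [IsScalarTower.algebraMap_apply (X.ring q) (C.carrier q) (A.carrier q),
            IsScalarTower.algebraMap_apply (X.ring q) (C.carrier q) (B.carrier q),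
            Algebra.algebraMap_eq_smul_one (A := A.carrier q), Algebra.algebraMap_eq_smul_one (A := B.carrier q),
            TensorProduct.smul_tmul]
        rw [e]; exact this) fun y => by
        have := h2 ((1 : A.carrier p) ⊗ₜ[C.carrier p] y)
        rw [hmul, map_one, Algebra.TensorProduct.tmul_mul_tmul, mul_one, one_mul] at this
        exact this
    refine RingHom.ext fun z => ?_
    induction z using TensorProduct.induction_on with
    | zero => exact (map_zero Φ).trans (map_zero Φ').symm
    | tmul x y =>
      rw [show x ⊗ₜ[C.carrier q] y = (x ⊗ₜ[C.carrier q] (1 : B.carrier q)) * ((1 : A.carrier q) ⊗ₜ[C.carrier q] y) by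
        rw [Algebra.TensorProduct.tmul_mul_tmul, mul_one, one_mul]]
      exact (map_mul Φ _ _).trans ((congrArg₂ (· * ·) (RingHom.congr_fun e1 x) (RingHom.congr_fun e2 y)).trans (map_mul Φ' _ _).symm)
    | add z w hz hw => exact (map_add Φ z w).trans ((congrArg₂ (· + ·) hz hw).trans (map_add Φ' z w).symm)
  · let bA : A.carrier p →+* T := b.comp (Algebra.TensorProduct.includeLeftRingHom (R := C.carrier p) (A := A.carrier p) (B := B.carrier p))
    let bB : B.carrier p →+* T := b.comp (Algebra.TensorProduct.includeRight (R := C.carrier p) (A := A.carrier p) (B := B.carrier p)).toRingHom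
    have hsame : ∀ c, bA (f.app p c) = bB (g.app p c) := fun c => by
      show b (algebraMap (C.carrier p) (A.carrier p) c ⊗ₜ[C.carrier p] (1 : B.carrier p)) =
        b ((1 : A.carrier p) ⊗ₜ[C.carrier p] algebraMap (C.carrier p) (B.carrier p) c)
      rw [Algebra.algebraMap_eq_smul_one, Algebra.algebraMap_eq_smul_one, TensorProduct.smul_tmul]
    obtain ⟨ΦA, hA1, hA2⟩ := alg_lift hA.1 h a bA fun x => hab x
    obtain ⟨ΦB, hB1, hB2⟩ := alg_lift hB.1 h a bB fun x => by
      refine (hab x).trans ?_
      show bA (algebraMap (X.ring p) (A.carrier p) x) = bB (algebraMap (X.ring p) (B.carrier p) x)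
      rw [← (f.app p).commutes, hsame, (g.app p).commutes]
    have hC : ΦA.comp (f.app q).toRingHom = ΦB.comp (g.app q).toRingHom :=
      alg_ext hC.1 h _ _ (fun s => by
        show ΦA (f.app q _) = ΦB (g.app q _)
        rw [(f.app q).commutes, (g.app q).commutes, hA1, hB1]) fun c => by
        show ΦA (f.app q _) = ΦB (g.app q _)
        rw [← compat' f h, ← compat' g h, hA2, hB2, hsame]
    letI : Algebra (C.carrier q) T := (ΦA.comp (f.app q).toRingHom).toAlgebra
    let ΦA' : A.carrier q →ₐ[C.carrier q] T := { ΦA with commutes' := fun c => rfl }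
    let ΦB' : B.carrier q →ₐ[C.carrier q] T := { ΦB with commutes' := fun c => (RingHom.congr_fun hC c).symm }
    let Φ := (Algebra.TensorProduct.productMap ΦA' ΦB').toRingHom
    have hΦ : ∀ x y, Φ (x ⊗ₜ[C.carrier q] y) = ΦA x * ΦB y := fun x y =>
      Algebra.TensorProduct.productMap_apply_tmul ΦA' ΦB' x y
    refine ⟨Φ, fun s => ?_, fun z => ?_⟩
    · show Φ (algebraMap (X.ring q) (A.carrier q) s ⊗ₜ[C.carrier q] (1 : B.carrier q)) = a s
      rw [hΦ, map_one, mul_one, hA1]
    · induction z using TensorProduct.induction_on with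
      | zero => exact (congrArg Φ (map_zero _)).trans ((map_zero Φ).trans (map_zero b).symm)
      | tmul x y =>
        show Φ ((A.res h x ⊗ₜ[C.carrier q] (1 : B.carrier q)) * ((1 : A.carrier q) ⊗ₜ[C.carrier q] B.res h y)) = _
        rw [Algebra.TensorProduct.tmul_mul_tmul, mul_one, one_mul, hΦ, hA2, hB2]
        show b _ * b _ = _
        rw [← map_mul]
        refine congrArg b ?_
        show (x ⊗ₜ[C.carrier p] (1 : B.carrier p)) * ((1 : A.carrier p) ⊗ₜ[C.carrier p] y) = x ⊗ₜ[C.carrier p] y
        rw [Algebra.TensorProduct.tmul_mul_tmul, mul_one, one_mul]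
      | add z w hz hw =>
        exact (congrArg Φ (map_add _ z w)).trans ((map_add Φ _ _).trans
          ((congrArg₂ (· + ·) hz hw).trans (map_add b z w).symm))
  · haveI := (hA.2 p).1
    haveI := (hA.2 p).2
    haveI := (hB.2 p).1
    haveI := (hB.2 p).2
    haveI := (hC.2 p).2
    haveI : Module.Finite (C.carrier p) (B.carrier p) := Module.Finite.of_restrictScalars_finite (X.ring p) _ _
    haveI : Algebra.Etale (C.carrier p) (B.carrier p) := Algebra.Etale.of_restrictScalars (X.ring p) _ _
    haveI : Module.Finite (A.carrier p) (A.carrier p ⊗[C.carrier p] B.carrier p) := inferInstance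
    haveI : Algebra.Etale (A.carrier p) (A.carrier p ⊗[C.carrier p] B.carrier p) := inferInstance
    exact ⟨Module.Finite.trans (R := X.ring p) (A.carrier p) (A.carrier p ⊗[C.carrier p] B.carrier p),
      Algebra.Etale.comp (X.ring p) (A.carrier p) (A.carrier p ⊗[C.carrier p] B.carrier p)⟩

theorem hasPushouts : HasPushouts (FEt X) := by
  haveI : ∀ {C A B : FEt X} {f : C ⟶ A} {g : C ⟶ B}, HasColimit (span f g) := fun {C A B f g} => by
    let P : FEt X := ⟨tensAlg f.hom g.hom, tens_isEtCover A.2 B.2 C.2 f.hom g.hom⟩
    letI : ∀ p, Algebra (C.obj.carrier p) (A.obj.carrier p) := fun p => (f.hom.app p).toRingHom.toAlgebra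
    letI : ∀ p, Algebra (C.obj.carrier p) (B.obj.carrier p) := fun p => (g.hom.app p).toRingHom.toAlgebra
    haveI : ∀ p, IsScalarTower (X.ring p) (C.obj.carrier p) (A.obj.carrier p) :=
      fun p => IsScalarTower.of_algebraMap_eq fun x => ((f.hom.app p).commutes x).symm
    have hmul : ∀ {p q : X.pt} (h : p ≤ q) (x : A.obj.carrier p) (y : B.obj.carrier p),
        P.obj.res h (x ⊗ₜ[C.obj.carrier p] y) = (A.obj.res h x ⊗ₜ[C.obj.carrier q] B.obj.res h y) := fun {p q} h x y => by
      show (A.obj.res h x ⊗ₜ[C.obj.carrier q] (1 : B.obj.carrier q)) * ((1 : A.obj.carrier q) ⊗ₜ[C.obj.carrier q] B.obj.res h y) = _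
      rw [Algebra.TensorProduct.tmul_mul_tmul, mul_one, one_mul]
    let inl : A ⟶ P := homMk
      { app := fun p =>
          { toRingHom := Algebra.TensorProduct.includeLeftRingHom (R := C.obj.carrier p) (A := A.obj.carrier p) (B := B.obj.carrier p)
            commutes' := fun _ => rfl }
        compat := fun {p q} h x => by
          show P.obj.res h (x ⊗ₜ[C.obj.carrier p] (1 : B.obj.carrier p)) = _
          rw [hmul, map_one]; rfl }
    let inr : B ⟶ P := homMk
      { app := fun p =>
          { toRingHom := (Algebra.TensorProduct.includeRight (R := C.obj.carrier p) (A := A.obj.carrier p) (B := B.obj.carrier p)).toRingHom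
            commutes' := fun x => by
              show (1 : A.obj.carrier p) ⊗ₜ[C.obj.carrier p] algebraMap _ _ x =
                algebraMap (X.ring p) (A.obj.carrier p) x ⊗ₜ[C.obj.carrier p] (1 : B.obj.carrier p)
              rw [← (g.hom.app p).commutes, ← (f.hom.app p).commutes]
              show (1 : A.obj.carrier p) ⊗ₜ[C.obj.carrier p] algebraMap (C.obj.carrier p) _ _ =
                algebraMap (C.obj.carrier p) _ _ ⊗ₜ[C.obj.carrier p] (1 : B.obj.carrier p)
              rw [Algebra.algebraMap_eq_smul_one (A := A.obj.carrier p), Algebra.algebraMap_eq_smul_one (A := B.obj.carrier p),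
                TensorProduct.smul_tmul] }
        compat := fun {p q} h x => by
          show P.obj.res h ((1 : A.obj.carrier p) ⊗ₜ[C.obj.carrier p] x) = _
          rw [hmul, map_one]; rfl }
    have w : f ≫ inl = g ≫ inr := fet_hom_ext _ _ fun p c => by
      show algebraMap (C.obj.carrier p) (A.obj.carrier p) c ⊗ₜ[C.obj.carrier p] (1 : B.obj.carrier p) =
        (1 : A.obj.carrier p) ⊗ₜ[C.obj.carrier p] algebraMap (C.obj.carrier p) (B.obj.carrier p) c
      rw [Algebra.algebraMap_eq_smul_one, Algebra.algebraMap_eq_smul_one, TensorProduct.smul_tmul]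
    have hw : ∀ (s : PushoutCocone f g) (p : X.pt) c, s.inl.hom.app p (f.hom.app p c) = s.inr.hom.app p (g.hom.app p c) :=
      fun s p c => congrArg (fun m : C ⟶ s.pt => m.hom.app p c) s.condition
    let desc0 : ∀ (s : PushoutCocone f g) (p : X.pt), P.obj.carrier p →ₐ[X.ring p] s.pt.obj.carrier p := fun s p =>
      letI : Algebra (C.obj.carrier p) (s.pt.obj.carrier p) := ((s.inl.hom.app p).toRingHom.comp (f.hom.app p).toRingHom).toAlgebra
      { toRingHom := (Algebra.TensorProduct.productMap
          (R := C.obj.carrier p) (A := A.obj.carrier p) (B := B.obj.carrier p) (S := s.pt.obj.carrier p)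
          { (s.inl.hom.app p).toRingHom with commutes' := fun c => rfl }
          { (s.inr.hom.app p).toRingHom with commutes' := fun c => (hw s p c).symm }).toRingHom
        commutes' := fun x => by
          show s.inl.hom.app p (algebraMap (X.ring p) _ x) * s.inr.hom.app p 1 = _
          rw [map_one, mul_one, (s.inl.hom.app p).commutes] }
    have hd : ∀ s p x y, desc0 s p (x ⊗ₜ[C.obj.carrier p] y) = s.inl.hom.app p x * s.inr.hom.app p y :=
      fun s p x y => rfl
    let desc : ∀ s : PushoutCocone f g, P ⟶ s.pt := fun s => homMk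
      { app := desc0 s
        compat := fun {p q} h z => by
          induction z using TensorProduct.induction_on with
          | zero => exact (congrArg (s.pt.obj.res h) (map_zero (desc0 s p))).trans ((map_zero _).trans
              ((congrArg (desc0 s q) (map_zero _)).trans (map_zero _)).symm)
          | tmul x y =>
            rw [hd, map_mul, compat' s.inl.hom h, compat' s.inr.hom h, hmul, hd]
          | add z w hz hw =>
            exact (congrArg (s.pt.obj.res h) (map_add (desc0 s p) z w)).trans ((map_add _ _ _).trans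
              ((congrArg₂ (· + ·) hz hw).trans ((congrArg (desc0 s q) (map_add _ z w)).trans (map_add _ _ _)).symm)) }
    refine ⟨⟨_, PushoutCocone.IsColimit.mk w desc (fun s => fet_hom_ext _ _ fun p x => ?_)
      (fun s => fet_hom_ext _ _ fun p x => ?_) fun s m h1 h2 => fet_hom_ext _ _ fun p z => ?_⟩⟩
    · show desc0 s p (x ⊗ₜ[C.obj.carrier p] (1 : B.obj.carrier p)) = _
      rw [hd, map_one, mul_one]
    · show desc0 s p ((1 : A.obj.carrier p) ⊗ₜ[C.obj.carrier p] x) = _
      rw [hd, map_one, one_mul]
    · induction z using TensorProduct.induction_on with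
      | zero => exact (map_zero (m.hom.app p)).trans (map_zero (desc0 s p)).symm
      | tmul x y =>
        show m.hom.app p _ = desc0 s p _
        rw [hd, ← congrArg (fun k : A ⟶ s.pt => k.hom.app p x) h1, ← congrArg (fun k : B ⟶ s.pt => k.hom.app p y) h2]
        show _ = m.hom.app p (x ⊗ₜ[C.obj.carrier p] (1 : B.obj.carrier p)) * m.hom.app p ((1 : A.obj.carrier p) ⊗ₜ[C.obj.carrier p] y)
        rw [← map_mul]
        refine congrArg _ ?_
        show _ = (x ⊗ₜ[C.obj.carrier p] (1 : B.obj.carrier p)) * ((1 : A.obj.carrier p) ⊗ₜ[C.obj.carrier p] y)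
        rw [Algebra.TensorProduct.tmul_mul_tmul, mul_one, one_mul]
      | add z w hz hw => exact (map_add (m.hom.app p) z w).trans ((congrArg₂ (· + ·) hz hw).trans (map_add (desc0 s p) z w).symm)
  exact hasPushouts_of_hasColimit_span _

theorem hasInitial : HasInitial (FEt X) :=
  IsInitial.hasInitial (IsInitial.ofUniqueHom (X := (⟨Alg.str X, str_isEtCover⟩ : FEt X))
    (fun A => homMk (fromStr A.obj)) fun A m => ObjectProperty.hom_ext _ (fromStr_unique m.hom))

end Groth.Agent.SchFinB
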