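import Groth.Agent.SchFinB.Schematic
/-!
Geometric points from maximal pairs.
-/
universe u
open SchFin TensorProduct
set_option linter.style.haveILetI false
set_option backward.isDefEq.respectTransparency false
noncomputable section

namespace Groth.Agent.SchFinB

variable {X : RSpace.{u}}

/-- a bijective semilinear map is a base change along an epimorphism -/
theorem isBCAlong_of_epi {R S : Type u} [CommRing R] [CommRing S] (g : R →+* S) {M N : Type u}
    [AddCommGroup M] [AddCommGroup N] [Module R M] [Module S N] (f : M →ₛₗ[g] N)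
    (hepi : ∀ (T : Type u) [CommRing T] (g₁ g₂ : S →+* T), g₁.comp g = g₂.comp g → g₁ = g₂)
    (hf : Function.Bijective f) : IsBCAlong g f := by
  letI : Algebra R S := g.toAlgebra
  letI : Module R N := Module.compHom N g
  haveI : IsScalarTower R S N := IsScalarTower.of_algebraMap_smul fun _ _ => rfl
  refine IsBaseChange.of_lift_unique _ fun Q _ _ _ _ h => ?_
  let e : M ≃ₗ[R] N := LinearEquiv.ofBijective
    ({ toFun := f, map_add' := f.map_add, map_smul' := f.map_smulₛₗ } : M →ₗ[R] N) hf
  let k : N →ₗ[R] Q := h.comp e.symm.toLinearMap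
  have hk : ∀ (s : S) (z : N), k (s • z) = s • k z := by
    intro s z
    let q : S ⊗[R] S →ₗ[R] Q := TensorProduct.lift
      (LinearMap.mk₂ R (fun a b : S => a • k (b • z))
        (fun a a' b => add_smul a a' _)
        (fun c a b => smul_assoc c a _)
        (fun a b b' => by rw [add_smul, map_add, smul_add])
        (fun c a b => by rw [smul_assoc, map_smul, smul_comm]))
    have h1 := RingHom.congr_fun (hepi (S ⊗[R] S) Algebra.TensorProduct.includeLeftRingHom
      Algebra.TensorProduct.includeRight.toRingHom (RingHom.ext fun r => by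
        show algebraMap R S r ⊗ₜ[R] (1 : S) = (1 : S) ⊗ₜ[R] algebraMap R S r
        rw [Algebra.algebraMap_eq_smul_one, TensorProduct.smul_tmul])) s
    have h2 := congrArg q (show s ⊗ₜ[R] (1 : S) = (1 : S) ⊗ₜ[R] s from h1)
    simp only [q, TensorProduct.lift.tmul, LinearMap.mk₂_apply, one_smul] at h2
    exact h2.symm
  refine ⟨{ k with map_smul' := hk }, LinearMap.ext fun m => ?_, fun k' hk' => LinearMap.ext fun z => ?_⟩
  · show h (e.symm (e m)) = h m
    rw [LinearEquiv.symm_apply_apply]
  · obtain ⟨m, rfl⟩ := e.surjective z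
    show k' (f m) = h (e.symm (e m))
    rw [LinearEquiv.symm_apply_apply, ← hk']
    rfl

/-- into zero, a base change when the tensor product vanishes -/
theorem isBCAlong_of_subsingleton {R S : Type u} [CommRing R] [CommRing S] (g : R →+* S) {M N : Type u}
    [AddCommGroup M] [AddCommGroup N] [Module R M] [Module S N] [Subsingleton N] (f : M →ₛₗ[g] N)
    (h0 : ∀ (Q : Type u) [AddCommMonoid Q] [Module S Q] (h : M →+ Q), (∀ r m, h (r • m) = g r • h m) → h = 0) :
    IsBCAlong g f := by
  letI : Algebra R S := g.toAlgebra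
  letI : Module R N := Module.compHom N g
  haveI : IsScalarTower R S N := IsScalarTower.of_algebraMap_smul fun _ _ => rfl
  refine IsBaseChange.of_lift_unique _ fun Q _ _ _ _ h => ⟨0, LinearMap.ext fun m => ?_, fun k' _ =>
    LinearMap.ext fun z => by rw [Subsingleton.elim z 0, map_zero, map_zero]⟩
  have := h0 Q h.toAddMonoidHom fun r m => by
    show h (r • m) = g r • h m
    rw [map_smul, ← algebraMap_smul S r (h m)]
    rfl
  exact (DFunLike.congr_fun this m).symm

theorem subsingleton_H_succ {R : Type u} [CommRing R] {U : Set X.pt} (φ : Coef X U R) (n : ℕ)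
    [Subsingleton U] : Subsingleton (H φ X.str (n + 1)) := by
  have : Subsingleton (Cochain φ X.str (n + 1)) := ⟨fun a b => funext fun σ =>
    absurd (σ.strictMono (show (0 : Fin (n + 2)) < Fin.last (n + 1) from Fin.last_pos))
      (by rw [Subsingleton.elim (σ 0) (σ (Fin.last (n + 1)))]; exact lt_irrefl _)⟩
  exact (Submodule.Quotient.mk_surjective _).subsingleton

theorem subsingleton_H_of_isEmpty {R : Type u} [CommRing R] {U : Set X.pt} (φ : Coef X U R) (n : ℕ)
    [IsEmpty U] : Subsingleton (H φ X.str n) := by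
  have : Subsingleton (Cochain φ X.str n) := ⟨fun a b => funext fun σ => isEmptyElim (σ 0)⟩
  exact (Submodule.Quotient.mk_surjective _).subsingleton

theorem resH_id_bijective {R : Type u} [CommRing R] {R' : Type u} [CommRing R'] {U U' : Set X.pt} {φ : Coef X U R}
    {φ' : Coef X U' R'} (s : Coef.Sub φ φ') (h : U ⊆ U') : Function.Bijective (resH X.str s 0) := by
  constructor
  · intro a b hab
    obtain ⟨c, rfl⟩ := cls_surjective φ a
    obtain ⟨d, rfl⟩ := cls_surjective φ b
    rw [resH_cls, resH_cls] at hab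
    refine congrArg _ (Subtype.ext (funext fun q => ?_))
    exact congrFun (congrArg Subtype.val (cls_injective φ' hab)) ⟨q.1, h q.2⟩
  · intro b
    obtain ⟨d, rfl⟩ := cls_surjective φ' b
    exact ⟨cls φ (restrSect h d), (resH_cls s _).trans (congrArg _ (Subtype.ext rfl))⟩

theorem pairRel_of_hom (hX : X.IsSchematic)
    (hff : ∀ s a b : X.pt, s ≤ a → s ≤ b → (X.up a ∩ X.up b).Nonempty →
      Module.FaithfullyFlat (X.sectRing (X.up a ∩ X.up b)) ((q : ↥(X.up a ∩ X.up b)) → X.ring q.1))
    {y y' : X.pt} (hy : y ≤ y') (a : X.Pair) (hya : y ≤ a.1) {L : Type u} [Field L]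
    (i : X.ring a.1 →+* L) (hi : RingHom.ker i = a.2.asIdeal) (j : X.ring y' →+* L)
    (hij : ∀ r, j (X.res hy r) = i (X.res hya r)) : ∃ Q : PrimeSpectrum (X.ring y'), X.PairRel a ⟨y', Q⟩ := by
  refine ⟨⟨RingHom.ker j, RingHom.ker_isPrime j⟩, pairRel_of_comap_eq hX hff hya hy a.2 _ (PrimeSpectrum.ext ?_)⟩
  ext r
  show X.res hya r ∈ a.2.asIdeal ↔ j (X.res hy r) = 0
  rw [hij, ← hi, RingHom.mem_ker]

theorem isSchematic_of_maximal (hX : X.IsSchematic)
    (hff : ∀ s a b : X.pt, s ≤ a → s ≤ b → (X.up a ∩ X.up b).Nonempty →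
      Module.FaithfullyFlat (X.sectRing (X.up a ∩ X.up b)) ((q : ↥(X.up a ∩ X.up b)) → X.ring q.1))
    {Ω : Type u} [Field Ω] (a : X.Pair) (ha : ∀ b : X.Pair, X.PairRel a b → b.1 ≤ a.1)
    (f : Hom (RSpace.point Ω) X) (hfn : f.fn PUnit.unit = a.1) (i : X.ring a.1 →+* Ω) (hi : RingHom.ker i = a.2.asIdeal)
    (hfi : ∀ {y : X.pt} (h1 : y ≤ f.fn PUnit.unit) (h2 : y ≤ a.1) (r : X.ring y),
      f.app PUnit.unit (X.res h1 r) = i (X.res h2 r)) :
    f.IsSchematic := by
  refine ⟨⟨fun _ => (inferInstance : IsNoetherianRing Ω), fun _ _ _ => RingHom.Flat.id Ω⟩, hX.1,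
    fun n x x' hx y y' hy => ⟨?_, ?_⟩⟩
  · have hres : ∀ b : Ω, (RSpace.point Ω).res hx b = b := fun _ => rfl
    have hb : Function.Bijective (resH (RSpace.point Ω).str (f.subSrc hx y) n) := by
      rcases n with _ | n
      · exact resH_id_bijective _ fun q hq => ⟨trivial, hq.2⟩
      · haveI : ∀ V : Set (RSpace.point Ω).pt, Subsingleton V := fun V =>
          ⟨fun a b => Subtype.ext (Subsingleton.elim (α := PUnit) a.1 b.1)⟩
        haveI := subsingleton_H_succ (Coef.ofLE (X := RSpace.point Ω) x _ (f.wedge_subset_up x y)) n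
        haveI := subsingleton_H_succ (Coef.ofLE (X := RSpace.point Ω) x' _ (f.wedge_subset_up x' y)) n
        exact ⟨fun a b _ => Subsingleton.elim a b, fun b => ⟨0, Subsingleton.elim _ b⟩⟩
    exact isBCAlong_of_epi _ _ (fun T _ g₁ g₂ hg => RingHom.ext fun b => RingHom.congr_fun hg b) hb
  · have hepi := fun (T : Type u) [CommRing T] (g₁ g₂ : X.ring y' →+* T) (hg : g₁.comp (X.res hy) = g₂.comp (X.res hy)) =>
      res_epi hX hy g₁ g₂ hg
    haveI hsub : ∀ V : Set (RSpace.point Ω).pt, Subsingleton V := fun V =>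
      ⟨fun a b => Subtype.ext (Subsingleton.elim (α := PUnit) a.1 b.1)⟩
    rcases n with _ | n
    swap
    · haveI := subsingleton_H_succ (Coef.ofHom f y _ (f.wedge_subset_pre x y)) n
      haveI := subsingleton_H_succ (Coef.ofHom f y' _ (f.wedge_subset_pre x y')) n
      exact isBCAlong_of_subsingleton _ _ fun Q _ _ h _ => AddMonoidHom.ext fun m => by
        rw [Subsingleton.elim m 0, map_zero, map_zero]
    by_cases hy' : y' ≤ a.1
    · exact isBCAlong_of_epi _ _ hepi (resH_id_bijective _ fun q hq => ⟨hq.1, (by rw [← hfn] at hy'; exact hy')⟩)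
    haveI : IsEmpty (f.wedge x y') := ⟨fun q => hy' (by rw [← hfn]; exact q.2.2)⟩
    haveI := subsingleton_H_of_isEmpty (Coef.ofHom f y' _ (f.wedge_subset_pre x y')) 0
    refine isBCAlong_of_subsingleton _ _ fun Q _ _ h hh => ?_
    by_cases hya : y ≤ a.1
    swap
    · haveI : IsEmpty (f.wedge x y) := ⟨fun q => hya (by rw [← hfn]; exact q.2.2)⟩
      haveI := subsingleton_H_of_isEmpty (Coef.ofHom f y _ (f.wedge_subset_pre x y)) 0
      exact AddMonoidHom.ext fun m => by rw [Subsingleton.elim m 0, map_zero, map_zero]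
    letI : Algebra (X.ring y) Ω := (i.comp (X.res hya)).toAlgebra
    letI : Algebra (X.ring y) (X.ring y') := (X.res hy).toAlgebra
    haveI : Subsingleton (Ω ⊗[X.ring y] X.ring y') := by
      by_contra hc
      haveI : Nontrivial (Ω ⊗[X.ring y] X.ring y') := not_subsingleton_iff_nontrivial.1 hc
      obtain ⟨m, hm⟩ := Ideal.exists_maximal (Ω ⊗[X.ring y] X.ring y')
      letI : Field ((Ω ⊗[X.ring y] X.ring y') ⧸ m) := Ideal.Quotient.field m
      let j₁ : Ω →+* (Ω ⊗[X.ring y] X.ring y') ⧸ m := (Ideal.Quotient.mk m).comp Algebra.TensorProduct.includeLeftRingHom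
      obtain ⟨Q, hQ⟩ := pairRel_of_hom hX hff hy a hya (j₁.comp i)
        (by rw [RingHom.ker_comp_of_injective _ j₁.injective, hi])
        ((Ideal.Quotient.mk m).comp Algebra.TensorProduct.includeRight.toRingHom)
        (fun r => congrArg (Ideal.Quotient.mk m) (by
          show (1 : Ω) ⊗ₜ[X.ring y] algebraMap (X.ring y) (X.ring y') r = algebraMap (X.ring y) Ω r ⊗ₜ[X.ring y] (1 : X.ring y')
          rw [Algebra.algebraMap_eq_smul_one, Algebra.algebraMap_eq_smul_one, TensorProduct.smul_tmul]))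
      exact hy' (ha _ hQ)
    have hq : PUnit.unit ∈ f.wedge x y := ⟨trivial, by rw [hfn]; exact hya⟩
    refine AddMonoidHom.ext fun m => ?_
    obtain ⟨c, rfl⟩ := cls_surjective _ m
    letI : Module (X.ring y) Q := Module.compHom Q (X.res hy)
    let sec : Ω →+* (RSpace.point Ω).sectRing (f.wedge x y) := (RSpace.point Ω).resSect x _ (f.wedge_subset_up x y)
    have hc : sec (c.1 ⟨PUnit.unit, hq⟩) = c := Subtype.ext (funext fun q => by
      obtain ⟨⟨⟩, hq'⟩ := q
      rfl)
    let ψ : Ω →ₗ[X.ring y] Q :=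
      { toFun := fun w => h (cls _ (sec w))
        map_add' := fun w w' => by rw [map_add, cls_add, map_add]
        map_smul' := fun r w => by
          refine Eq.trans ?_ (hh r _)
          rw [cls_smul]
          refine congrArg (fun t => h (cls _ t)) (Subtype.ext (funext fun q => ?_))
          obtain ⟨⟨⟩, hq'⟩ := q
          show ((i (X.res hya r) : Ω) * w : Ω) = (show Ω from f.app PUnit.unit (X.res hq'.2 r)) * w
          rw [show (show Ω from f.app PUnit.unit (X.res hq'.2 r)) = i (X.res hya r) from hfi hq'.2 hya r] }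
    let q : Ω ⊗[X.ring y] X.ring y' →ₗ[X.ring y] Q := TensorProduct.lift
      (LinearMap.mk₂ (X.ring y) (fun (w : Ω) (s : X.ring y') => s • ψ w)
        (fun w w' s => by rw [map_add, smul_add])
        (fun r w s => by
          rw [map_smul]
          change s • X.res hy r • ψ w = X.res hy r • s • ψ w
          rw [smul_comm])
        (fun w s s' => add_smul s s' _)
        (fun r w s => by
          change (X.res hy r * s) • ψ w = X.res hy r • s • ψ w
          rw [mul_smul]))
    let w₀ : Ω := c.1 ⟨PUnit.unit, hq⟩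
    have h1 : q (w₀ ⊗ₜ[X.ring y] (1 : X.ring y')) = 0 := by
      rw [Subsingleton.elim (w₀ ⊗ₜ[X.ring y] (1 : X.ring y')) 0, map_zero]
    simp only [q, TensorProduct.lift.tmul, LinearMap.mk₂_apply, one_smul, ψ, w₀, LinearMap.coe_mk, AddHom.coe_mk, hc] at h1
    exact h1

theorem existsUnique_geomPt (hX : X.IsSchematic)
    (hff : ∀ s a b : X.pt, s ≤ a → s ≤ b → (X.up a ∩ X.up b).Nonempty →
      Module.FaithfullyFlat (X.sectRing (X.up a ∩ X.up b)) ((q : ↥(X.up a ∩ X.up b)) → X.ring q.1))
    (Ω : Type u) [Field Ω] [IsAlgClosed Ω] (a : X.Pair) (ha : ∀ b : X.Pair, X.PairRel a b → b.1 ≤ a.1)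
    (φ : a.κ →+* Ω) :
    ∃! ξ : GeomPt X Ω, (⟨ξ.base, ξ.toField⟩ : Σ x : X.pt, (X.ring x →+* Ω)) =
      ⟨a.1, φ.comp (algebraMap (X.ring a.1) a.κ)⟩ := by
  let i : X.ring a.1 →+* Ω := φ.comp (algebraMap (X.ring a.1) a.κ)
  let f : Hom (RSpace.point Ω) X :=
    { fn := fun _ => a.1
      mono := fun _ _ _ => le_rfl
      app := fun _ => i
      compat := fun h b => by
        change i b = i (X.res _ b)
        rw [X.res_self] }
  have hi : RingHom.ker i = a.2.asIdeal := by
    ext r
    show φ _ = 0 ↔ _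
    rw [map_eq_zero, Ideal.algebraMap_residueField_eq_zero]
  refine ⟨⟨f, isSchematic_of_maximal hX hff a ha f rfl i hi fun _ _ _ => rfl⟩, rfl, fun ξ hξ => ?_⟩
  obtain ⟨⟨fn, mono, app, compat⟩, hs⟩ := ξ
  simp only [GeomPt.base, GeomPt.toField, Sigma.mk.injEq] at hξ
  obtain ⟨h1, h2⟩ := hξ
  have e1 : fn = fun _ => a.1 := funext fun q => by cases q; exact h1
  subst e1
  have e2 : app = fun _ => i := funext fun q => by cases q; exact eq_of_heq h2
  subst e2
  rfl

end Groth.Agent.SchFinB
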