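import Mathlib
import Groth.Prelude.Def_SchFin2
/-!
Base change of algebras along a ring map by its universal property; products.
-/
universe u
open SchFin TensorProduct
set_option linter.style.haveILetI false
set_option backward.isDefEq.respectTransparency false
noncomputable section

namespace Groth.Agent.SchFinB

variable {R S A B : Type u} [CommRing R] [CommRing S] [CommRing A] [CommRing B] [Algebra R A] [Algebra S B]

/-- a ring map over `g`, as a semilinear map -/
def algLin (g : R →+* S) (r : A →+* B) (hr : ∀ x, r (algebraMap R A x) = algebraMap S B (g x)) : A →ₛₗ[g] B where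
  toFun := r
  map_add' := map_add _
  map_smul' x a := by rw [Algebra.smul_def, Algebra.smul_def, map_mul, hr]

variable {g : R →+* S} {r : A →+* B} {hr : ∀ x, r (algebraMap R A x) = algebraMap S B (g x)}

theorem bcAlg_ext (h : IsBCAlong g (algLin g r hr)) {T : Type u} [CommRing T] (Φ Φ' : B →+* T)
    (h1 : ∀ s, Φ (algebraMap S B s) = Φ' (algebraMap S B s)) (h2 : ∀ a, Φ (r a) = Φ' (r a)) : Φ = Φ' := by
  letI : Algebra R S := g.toAlgebra
  letI : Module R B := Module.compHom B g
  haveI : IsScalarTower R S B := IsScalarTower.of_algebraMap_smul fun _ _ => rfl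
  let F := algLin g r hr
  have hf : IsBaseChange S ({ toFun := F, map_add' := F.map_add, map_smul' := F.map_smulₛₗ } : A →ₗ[R] B) := h
  ext b
  induction b using hf.inductionOn with
  | zero => rw [map_zero, map_zero]
  | tmul a => exact h2 a
  | smul s b hb => rw [Algebra.smul_def, map_mul, map_mul, h1, hb]
  | add b b' hb hb' => rw [map_add, map_add, hb, hb']

theorem bcAlg_lift (h : IsBCAlong g (algLin g r hr)) {T : Type u} [CommRing T] (a : S →+* T) (b : A →+* T)
    (hab : ∀ x, a (g x) = b (algebraMap R A x)) :
    ∃ Φ : B →+* T, (∀ s, Φ (algebraMap S B s) = a s) ∧ ∀ x, Φ (r x) = b x := by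
  letI : Algebra R S := g.toAlgebra
  letI : Module R B := Module.compHom B g
  haveI : IsScalarTower R S B := IsScalarTower.of_algebraMap_smul fun _ _ => rfl
  let F := algLin g r hr
  let f : A →ₗ[R] B := { toFun := F, map_add' := F.map_add, map_smul' := F.map_smulₛₗ }
  have hf : IsBaseChange S f := h
  letI : Module S T := Module.compHom T a
  letI : Module R T := Module.compHom T (a.comp g)
  haveI : IsScalarTower R S T := IsScalarTower.of_algebraMap_smul fun _ _ => rfl
  let ψ : A →ₗ[R] T :=
    { toFun := b
      map_add' := map_add b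
      map_smul' := fun x y => by
        rw [Algebra.smul_def, map_mul, ← hab]; rfl }
  let Ψ := hf.lift ψ
  have h1 : ∀ x, Ψ (r x) = b x := fun x => hf.lift_eq ψ x
  have h2 : ∀ (s : S) (z : B), Ψ (s • z) = a s * Ψ z := fun s z => by rw [map_smul]; rfl
  have hone : Ψ 1 = 1 := by rw [← map_one r, h1, map_one]
  have hmul : ∀ z w, Ψ (z * w) = Ψ z * Ψ w := by
    intro z w
    induction z using hf.inductionOn with
    | zero => simp
    | tmul x =>
      induction w using hf.inductionOn with
      | zero => simp
      | tmul y =>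
        change Ψ (r x * r y) = Ψ (r x) * Ψ (r y)
        rw [← map_mul, h1, h1, h1, map_mul]
      | smul s w hw => rw [mul_smul_comm, h2, h2, hw]; ring
      | add w w' hw hw' => rw [mul_add, map_add, map_add, hw, hw', mul_add]
    | smul s z hz => rw [smul_mul_assoc, h2, h2, hz]; ring
    | add z z' hz hz' => rw [add_mul, map_add, map_add, hz, hz', add_mul]
  refine ⟨{ Ψ.toAddMonoidHom with map_one' := hone, map_mul' := hmul }, fun s => ?_, h1⟩
  show Ψ (algebraMap S B s) = a s
  rw [Algebra.algebraMap_eq_smul_one, h2, hone, mul_one]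

theorem bcAlg_of_univ
    (hext : ∀ (T : Type u) [CommRing T] (Φ Φ' : B →+* T), (∀ s, Φ (algebraMap S B s) = Φ' (algebraMap S B s)) →
      (∀ a, Φ (r a) = Φ' (r a)) → Φ = Φ')
    (hlift : ∀ (T : Type u) [CommRing T] (a : S →+* T) (b : A →+* T), (∀ x, a (g x) = b (algebraMap R A x)) →
      ∃ Φ : B →+* T, (∀ s, Φ (algebraMap S B s) = a s) ∧ ∀ x, Φ (r x) = b x) :
    IsBCAlong g (algLin g r hr) := by
  letI : Algebra R S := g.toAlgebra
  have hbij : ∃ M0 : S ⊗[R] A →+ B, Function.Bijective M0 ∧ ∀ s a, M0 (s ⊗ₜ[R] a) = s • r a := by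
    letI algRB : Algebra R B := ((algebraMap S B).comp g).toAlgebra
    haveI : IsScalarTower R S B := IsScalarTower.of_algebraMap_eq fun _ => rfl
    let rA : A →ₐ[R] B := { r with commutes' := hr }
    let M : S ⊗[R] A →ₐ[S] B := Algebra.TensorProduct.lift (Algebra.ofId S B) rA fun _ _ => Commute.all _ _
    obtain ⟨Φ, hΦ1, hΦ2⟩ := hlift (S ⊗[R] A) Algebra.TensorProduct.includeLeftRingHom
      Algebra.TensorProduct.includeRight.toRingHom (fun x => by
        show algebraMap R S x ⊗ₜ[R] (1 : A) = (1 : S) ⊗ₜ[R] algebraMap R A x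
        rw [Algebra.algebraMap_eq_smul_one, Algebra.algebraMap_eq_smul_one, TensorProduct.smul_tmul])
    have hM1 : ∀ s, M (s ⊗ₜ[R] 1) = algebraMap S B s := fun s => by
      simp [M]
    have hM2 : ∀ a, M ((1 : S) ⊗ₜ[R] a) = r a := fun a => by
      simp [M, rA]
    have hleft : ∀ b, M (Φ b) = b := fun b => RingHom.congr_fun (hext B (M.toRingHom.comp Φ) (RingHom.id B)
      (fun s => by show M (Φ _) = _; rw [hΦ1]; exact hM1 s) (fun a => by show M (Φ _) = _; rw [hΦ2]; exact hM2 a)) b
    have hright : ∀ t, Φ (M t) = t := by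
      intro t
      induction t using TensorProduct.induction_on with
      | zero => rw [map_zero, map_zero]
      | tmul s a =>
        have e : s ⊗ₜ[R] a = (s ⊗ₜ[R] (1 : A)) * ((1 : S) ⊗ₜ[R] a) := by
          rw [Algebra.TensorProduct.tmul_mul_tmul, mul_one, one_mul]
        rw [e, map_mul, map_mul, hM1, hM2, hΦ1, hΦ2]
        rfl
      | add t t' ht ht' => rw [map_add, map_add, ht, ht']
    refine ⟨M.toLinearMap.toAddMonoidHom, ⟨fun x y hxy => by rw [← hright x, ← hright y]; exact congrArg Φ hxy, fun b => ⟨Φ b, hleft b⟩⟩, fun s a => ?_⟩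
    show M (s ⊗ₜ[R] a) = s • r a
    rw [show s ⊗ₜ[R] a = (s ⊗ₜ[R] (1 : A)) * ((1 : S) ⊗ₜ[R] a) by rw [Algebra.TensorProduct.tmul_mul_tmul, mul_one, one_mul],
      map_mul, hM1, hM2, Algebra.smul_def]
  obtain ⟨M0, hb, hM0⟩ := hbij
  letI : Module R B := Module.compHom B g
  haveI : IsScalarTower R S B := IsScalarTower.of_algebraMap_smul fun _ _ => rfl
  let F := algLin g r hr
  let e : S ⊗[R] A ≃ₗ[S] B :=
    { AddEquiv.ofBijective M0 hb with
      map_smul' := fun s t => by
        show M0 (s • t) = s • M0 t
        induction t using TensorProduct.induction_on with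
        | zero => rw [smul_zero, map_zero, smul_zero]
        | tmul s' a => rw [TensorProduct.smul_tmul', hM0, hM0, smul_eq_mul, mul_smul]
        | add t t' ht ht' => rw [smul_add, map_add, map_add, ht, ht', smul_add] }
  exact IsBaseChange.of_equiv (f := ({ toFun := F, map_add' := F.map_add, map_smul' := F.map_smulₛₗ } : A →ₗ[R] B))
    e fun a => (hM0 1 a).trans (one_smul S _)

/-- products of base changes -/
theorem isBCAlong_prod {M N M' N' : Type u} [AddCommGroup M] [AddCommGroup N] [AddCommGroup M'] [AddCommGroup N']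
    [Module R M] [Module S N] [Module R M'] [Module S N'] {f : M →ₛₗ[g] N} {f' : M' →ₛₗ[g] N'}
    (h : IsBCAlong g f) (h' : IsBCAlong g f') (F : M × M' →ₛₗ[g] N × N') (hF : ∀ m, F m = (f m.1, f' m.2)) :
    IsBCAlong g F := by
  letI : Algebra R S := g.toAlgebra
  letI : Module R N := Module.compHom N g
  letI : Module R N' := Module.compHom N' g
  haveI : IsScalarTower R S N := IsScalarTower.of_algebraMap_smul fun _ _ => rfl
  haveI : IsScalarTower R S N' := IsScalarTower.of_algebraMap_smul fun _ _ => rfl
  let l : M →ₗ[R] N := { toFun := f, map_add' := f.map_add, map_smul' := f.map_smulₛₗ }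
  let l' : M' →ₗ[R] N' := { toFun := f', map_add' := f'.map_add, map_smul' := f'.map_smulₛₗ }
  have hl : IsBaseChange S l := h
  have hl' : IsBaseChange S l' := h'
  have key : IsBaseChange S (l.prodMap l') := hl.prodMap l l' hl'
  refine IsBaseChange.of_lift_unique _ fun Q _ _ _ _ k => ?_
  letI : Module R (N × N') := Module.compHom _ g
  refine ⟨key.lift k, LinearMap.ext fun m => ?_, fun k' hk => key.algHom_ext _ _ fun m => ?_⟩
  · show key.lift k (F m) = k m
    rw [hF]; exact key.lift_eq k m
  · rw [key.lift_eq]
    exact (congrArg k' (hF m).symm).trans (LinearMap.congr_fun hk m)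

theorem etale_prod (R A B : Type u) [CommRing R] [CommRing A] [CommRing B] [Algebra R A] [Algebra R B]
    [Algebra.Etale R A] [Algebra.Etale R B] : Algebra.Etale R (A × B) := by
  let C : Bool → Type u := fun b => match b with
    | true => A
    | false => B
  letI : ∀ b, CommRing (C b) := fun b => match b with
    | true => ‹CommRing A›
    | false => ‹CommRing B›
  letI : ∀ b, Algebra R (C b) := fun b => match b with
    | true => ‹Algebra R A›
    | false => ‹Algebra R B›
  haveI : ∀ b, Algebra.Etale R (C b) := fun b => match b with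
    | true => ‹Algebra.Etale R A›
    | false => ‹Algebra.Etale R B›
  let e : (Π b, C b) ≃ₐ[R] A × B :=
    { toFun := fun f => (f true, f false)
      invFun := fun p b => match b with
        | true => p.1
        | false => p.2
      left_inv := fun f => funext fun b => by cases b <;> rfl
      right_inv := fun p => rfl
      map_mul' := fun _ _ => rfl
      map_add' := fun _ _ => rfl
      commutes' := fun _ => rfl }
  exact Algebra.Etale.of_equiv e

theorem etale_subsingleton (R A : Type u) [CommRing R] [CommRing A] [Algebra R A] [Subsingleton A] :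
    Algebra.Etale R A := by
  haveI : IsLocalization.Away (0 : R) A :=
    { map_units := fun _ => ⟨1, Subsingleton.elim _ _⟩
      surj := fun z => ⟨(0, 1), Subsingleton.elim _ _⟩
      exists_of_eq := fun _ => ⟨⟨0, ⟨1, pow_one 0⟩⟩, by simp⟩ }
  exact Algebra.Etale.of_isLocalizationAway 0

/-- the annihilator of a finite projective module is generated by an idempotent -/
theorem exists_idem_annihilator (A P : Type u) [CommRing A] [AddCommGroup P] [Module A P] [Module.Finite A P]
    [Module.Projective A P] :
    ∃ e : A, IsIdempotentElem e ∧ ∀ a : A, (∀ m : P, a • m = 0) ↔ a * e = 0 := by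
  classical
  obtain ⟨n, f, hf⟩ := Module.Finite.exists_fin' A P
  obtain ⟨s, hs⟩ := Module.projective_lifting_property f LinearMap.id hf
  let x : Fin n → P := fun i => f (Pi.single i 1)
  let c : Fin n → P →ₗ[A] A := fun i => (LinearMap.proj i).comp s
  have hbasis : ∀ m : P, ∑ i, c i m • x i = m := fun m => by
    have h1 : f (s m) = m := LinearMap.congr_fun hs m
    conv_rhs => rw [← h1, show s m = ∑ i, c i m • Pi.single i (1 : A) from funext fun j => by
      simp [c, Finset.sum_apply, Pi.single_apply]]
    rw [map_sum]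
    exact Finset.sum_congr rfl fun i _ => (map_smul _ _ _).symm
  let τ : Ideal A := Ideal.span (Set.range fun p : Fin n × Fin n => c p.1 (x p.2))
  have hle : (⊤ : Submodule A P) ≤ τ • (⊤ : Submodule A P) := fun m _ => by
    rw [← hbasis m]
    refine Submodule.sum_mem _ fun i _ => Submodule.smul_mem_smul ?_ trivial
    rw [← hbasis m, map_sum]
    exact Ideal.sum_mem _ fun j _ => by
      rw [map_smul, smul_eq_mul]
      exact Ideal.mul_mem_left _ _ (Ideal.subset_span ⟨(i, j), rfl⟩)
  obtain ⟨e, he, hem⟩ := Submodule.exists_mem_and_smul_eq_self_of_fg_of_le_smul τ ⊤ Module.Finite.fg_top hle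
  have key : ∀ a : A, (∀ m : P, a • m = 0) → a * e = 0 := fun a ha => by
    clear hem
    induction he using Submodule.span_induction with
    | mem t ht =>
      obtain ⟨⟨i, j⟩, rfl⟩ := ht
      rw [← smul_eq_mul, ← map_smul, ha, map_zero]
    | zero => exact mul_zero a
    | add s t _ _ hs ht => rw [mul_add, hs, ht, add_zero]
    | smul b t _ ht => rw [smul_eq_mul, mul_left_comm, ht, mul_zero]
  refine ⟨e, ?_, fun a => ⟨key a, fun h m => ?_⟩⟩
  · have h1 := key (1 - e) fun m => by rw [sub_smul, one_smul, hem m trivial, sub_self]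
    rw [sub_mul, one_mul, sub_eq_zero] at h1
    exact h1.symm
  · rw [← hem m trivial, ← mul_smul, h, zero_smul]

end Groth.Agent.SchFinB
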