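import Mathlib
import Groth.Prelude.Def_SchFin2
/-!
Degree zero of the standard complex of a finite ringed poset, and consequences of the schematic condition.
-/
universe u
open SchFin TensorProduct
set_option linter.style.haveILetI false
set_option backward.isDefEq.respectTransparency false
noncomputable section

namespace Groth.Agent.SchFinB

variable {X : RSpace.{u}} {U : Set X.pt} {R : Type u} [CommRing R]

/-- a one-point chain -/
def single (q : U) : Chain U 0 := OrderEmbedding.ofStrictMono (fun _ => q) fun a b h => absurd h (by omega)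

/-- a chain of two points -/
def two {q q' : U} (h : q < q') : Chain U 1 :=
  OrderEmbedding.ofStrictMono ![q, q'] fun a b hab => by
    fin_cases a <;> fin_cases b <;> first | exact absurd hab (by decide) | simpa using h

theorem single_last (σ : Chain U 0) : σ = single (σ (Fin.last 0)) := by
  apply RelEmbedding.ext; intro i
  have : i = Fin.last 0 := Fin.ext (by omega)
  subst this; rfl

/-- the cochain of a section -/
def ofSect (φ : Coef X U R) (s : X.sectRing U) : Cochain φ X.str 0 := fun σ => s.1 (σ (Fin.last 0))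

theorem ofSect_mem (φ : Coef X U R) (s : X.sectRing U) : ofSect φ s ∈ cocycles φ X.str 0 := by
  refine LinearMap.mem_ker.2 (funext fun σ => ?_)
  show ∑ j : Fin 2, ((-1 : ℤ) ^ (j : ℕ)) • (ofSect φ s).faceVal σ j = 0
  have hv : ∀ j : Fin 2, (ofSect φ s).faceVal σ j = s.1 (σ (Fin.last 1)) := fun j =>
    s.2 ((σ.face j) (Fin.last 0)) (σ (Fin.last 1)) (Chain.face_last_le j σ)
  simp only [Fin.sum_univ_two, hv, Fin.val_zero, Fin.val_one, pow_zero, pow_one, one_smul, neg_smul]
  exact add_neg_cancel _

/-- the class of a section in cohomology of degree zero -/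
def cls (φ : Coef X U R) (s : X.sectRing U) : H φ X.str 0 := H.mk φ X.str 0 ⟨ofSect φ s, ofSect_mem φ s⟩

theorem cls_add (φ : Coef X U R) (s t : X.sectRing U) : cls φ (s + t) = cls φ s + cls φ t := by
  unfold cls
  rw [← map_add]
  exact congrArg _ (Subtype.ext rfl)

theorem cls_zero (φ : Coef X U R) : cls φ 0 = 0 := by
  unfold cls
  rw [← map_zero (H.mk φ X.str 0)]
  exact congrArg _ (Subtype.ext rfl)

/-- the scalars as sections -/
def coefSect (φ : Coef X U R) : R →+* X.sectRing U where
  toFun r := ⟨fun q => φ.map q r, fun q q' h => φ.compat q q' h r⟩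
  map_one' := Subtype.ext (funext fun q => map_one (φ.map q))
  map_mul' a b := Subtype.ext (funext fun q => map_mul (φ.map q) a b)
  map_zero' := Subtype.ext (funext fun q => map_zero (φ.map q))
  map_add' a b := Subtype.ext (funext fun q => map_add (φ.map q) a b)

theorem cls_smul (φ : Coef X U R) (r : R) (s : X.sectRing U) : r • cls φ s = cls φ (coefSect φ r * s) := by
  unfold cls
  rw [← map_smul]
  exact congrArg _ (Subtype.ext rfl)

theorem cls_injective (φ : Coef X U R) : Function.Injective (cls φ) := fun s t h => by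
  have h1 := (Submodule.Quotient.eq _).1 (show Submodule.Quotient.mk (p := (cobdry φ X.str 0).comap (cocycles φ X.str 0).subtype)
    (⟨ofSect φ s, ofSect_mem φ s⟩ : cocycles φ X.str 0) = Submodule.Quotient.mk ⟨ofSect φ t, ofSect_mem φ t⟩ from h)
  have h2 : ofSect φ s - ofSect φ t = 0 := (Submodule.mem_bot R).1 h1
  refine Subtype.ext (funext fun q => ?_)
  have h3 := congrFun (sub_eq_zero.1 h2) (single q)
  exact h3

theorem cls_surjective (φ : Coef X U R) : Function.Surjective (cls φ) := by
  intro z
  obtain ⟨⟨c, hc⟩, rfl⟩ := Submodule.mkQ_surjective _ z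
  refine ⟨⟨fun q => c (single q), fun q q' h => ?_⟩, congrArg (H.mk φ X.str 0) (Subtype.ext (funext fun σ => ?_))⟩
  · rcases (show q ≤ q' from h).eq_or_lt with rfl | hlt
    · exact X.res_self _ _
    · have hd := congrFun (show diff φ X.str 0 c = 0 from hc) (two hlt)
      change ∑ j : Fin 2, ((-1 : ℤ) ^ (j : ℕ)) • Cochain.faceVal c (two hlt) j = 0 at hd
      simp only [Fin.sum_univ_two, Fin.val_zero, Fin.val_one, pow_zero, pow_one, one_smul, neg_smul] at hd
      have e : ∀ (τ : Chain U 0) (p : U) (hp : τ = single p) (h : (τ (Fin.last 0)).1 ≤ q'.1),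
          X.res h (c τ) = X.res (show p.1 ≤ q'.1 by subst hp; exact h) (c (single p)) := by
        rintro τ p rfl h; rfl
      have e0 : Cochain.faceVal c (two hlt) 0 = X.res (le_refl q'.1) (c (single q')) :=
        e _ q' (RelEmbedding.ext fun i => by fin_cases i; rfl) _
      have e1 : Cochain.faceVal c (two hlt) 1 = X.res h (c (single q)) :=
        e _ q (RelEmbedding.ext fun i => by fin_cases i; rfl) _
      rw [e0, e1, X.res_self] at hd
      exact (eq_of_sub_eq_zero (a := c (single q')) ((sub_eq_add_neg _ _).trans hd)).symm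
  · obtain ⟨q, rfl⟩ : ∃ q, σ = single q := ⟨_, single_last σ⟩
    rfl

/-- the section restricted to a smaller subset -/
def restrSect {U' : Set X.pt} (h : U' ⊆ U) : X.sectRing U →+* X.sectRing U' where
  toFun s := ⟨fun q => s.1 ⟨q.1, h q.2⟩, fun q q' hq => s.2 ⟨q.1, h q.2⟩ ⟨q'.1, h q'.2⟩ hq⟩
  map_one' := rfl
  map_mul' _ _ := rfl
  map_zero' := rfl
  map_add' _ _ := rfl

theorem resH_cls {R' : Type u} [CommRing R'] {U' : Set X.pt} {φ : Coef X U R} {φ' : Coef X U' R'}
    (s : Coef.Sub φ φ') (a : X.sectRing U) :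
    resH X.str s 0 (cls φ a) = cls φ' (restrSect s.le a) :=
  congrArg (H.mk φ' X.str 0) (Subtype.ext rfl)

/-- the degree zero of cohomology as sections -/
def clsEquiv (φ : Coef X U R) : X.sectRing U ≃+ H φ X.str 0 :=
  AddEquiv.ofBijective (AddMonoidHom.mk' (cls φ) (cls_add φ)) ⟨cls_injective φ, cls_surjective φ⟩

theorem clsEquiv_apply (φ : Coef X U R) (s : X.sectRing U) : clsEquiv φ s = cls φ s := rfl

/-- scalar action read on sections -/
theorem clsEquiv_symm_smul (φ : Coef X U R) (r : R) (z : H φ X.str 0) :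
    (clsEquiv φ).symm (r • z) = coefSect φ r * (clsEquiv φ).symm z := by
  apply (clsEquiv φ).injective
  rw [AddEquiv.apply_symm_apply, clsEquiv_apply, ← cls_smul, ← clsEquiv_apply, AddEquiv.apply_symm_apply]

/-- a base change in degree zero, as a universal property for maps out of sections -/
theorem exists_lift_of_isBCAlong {S : Type u} [CommRing S] {g : R →+* S} {U' : Set X.pt} {φ : Coef X U R}
    {φ' : Coef X U' S} {s : Coef.Sub φ φ'} (hbc : IsBCAlong s.hom (resH X.str s 0)) (_ : s.hom = g)
    {T : Type u} [CommRing T] (a : S →+* T) (b : X.sectRing U →+* T)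
    (hab : ∀ r, a (g r) = b (coefSect φ r)) :
    ∃ Φ : X.sectRing U' →+* T, (∀ c, Φ (coefSect φ' c) = a c) ∧ ∀ c, Φ (restrSect s.le c) = b c := by
  subst g
  letI : Algebra R S := s.hom.toAlgebra
  letI : Module R (H φ' X.str 0) := Module.compHom _ s.hom
  haveI : IsScalarTower R S (H φ' X.str 0) := IsScalarTower.of_algebraMap_smul fun _ _ => rfl
  let f : H φ X.str 0 →ₗ[R] H φ' X.str 0 :=
    { toFun := resH X.str s 0, map_add' := (resH X.str s 0).map_add, map_smul' := (resH X.str s 0).map_smulₛₗ }
  have hf : IsBaseChange S f := hbc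
  letI : Module S T := Module.compHom T a
  letI : Module R T := Module.compHom T (a.comp s.hom)
  haveI : IsScalarTower R S T := IsScalarTower.of_algebraMap_smul fun _ _ => rfl
  let ψ : H φ X.str 0 →ₗ[R] T :=
    { toFun := fun z => b ((clsEquiv φ).symm z)
      map_add' := fun z w => by rw [map_add, map_add]
      map_smul' := fun r z => by
        rw [clsEquiv_symm_smul, map_mul, ← hab]
        rfl }
  let Ψ := hf.lift ψ
  have h1 : ∀ c, Ψ (cls φ' (restrSect s.le c)) = b c := fun c => by
    rw [← resH_cls s c]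
    refine (hf.lift_eq ψ (cls φ c)).trans ?_
    show b ((clsEquiv φ).symm (clsEquiv φ c)) = b c
    rw [AddEquiv.symm_apply_apply]
  have h2 : ∀ (r : S) (t : X.sectRing U'), Ψ (cls φ' (coefSect φ' r * t)) = a r * Ψ (cls φ' t) := fun r t => by
    rw [← cls_smul, map_smul]; rfl
  let Φ₀ : X.sectRing U' →+ T := Ψ.toAddMonoidHom.comp (clsEquiv φ').toAddMonoidHom
  have hone : Φ₀ 1 = 1 := by
    show Ψ (cls φ' 1) = 1
    rw [← map_one (restrSect s.le), h1, map_one]
  have hmul : ∀ z w, Φ₀ (z * w) = Φ₀ z * Φ₀ w := by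
    intro z w
    obtain ⟨x, rfl⟩ : ∃ x, (clsEquiv φ').symm x = z := ⟨clsEquiv φ' z, AddEquiv.symm_apply_apply _ _⟩
    induction x using hf.inductionOn with
    | zero => simp
    | tmul m =>
      obtain ⟨c, rfl⟩ := cls_surjective φ m
      obtain ⟨y, rfl⟩ : ∃ y, (clsEquiv φ').symm y = w := ⟨clsEquiv φ' w, AddEquiv.symm_apply_apply _ _⟩
      have e : (clsEquiv φ').symm (f (cls φ c)) = restrSect s.le c := by
        rw [AddEquiv.symm_apply_eq]; exact resH_cls s c
      rw [e]
      induction y using hf.inductionOn with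
      | zero => simp
      | tmul m =>
        obtain ⟨d, rfl⟩ := cls_surjective φ m
        have e' : (clsEquiv φ').symm (f (cls φ d)) = restrSect s.le d := by
          rw [AddEquiv.symm_apply_eq]; exact resH_cls s d
        rw [e', ← map_mul]
        show Ψ (cls φ' _) = Ψ (cls φ' _) * Ψ (cls φ' _)
        rw [h1, h1, h1, map_mul]
      | smul r y hy =>
        rw [clsEquiv_symm_smul, mul_left_comm]
        show Ψ (cls φ' _) = Ψ (cls φ' _) * Ψ (cls φ' _)
        rw [h2, h2]
        change a r * Φ₀ _ = Φ₀ _ * (a r * Φ₀ _)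
        rw [hy, mul_left_comm]
      | add y y' hy hy' => rw [map_add, mul_add, map_add, map_add, hy, hy', mul_add]
    | smul r x hx =>
      rw [clsEquiv_symm_smul, mul_assoc]
      show Ψ (cls φ' _) = Ψ (cls φ' _) * Ψ (cls φ' _)
      rw [h2, h2]
      change a r * Φ₀ _ = a r * Φ₀ _ * Φ₀ _
      rw [hx, mul_assoc]
    | add x x' hx hx' => rw [map_add, add_mul, map_add, map_add, hx, hx', add_mul]
  refine ⟨{ Φ₀ with map_one' := hone, map_mul' := hmul }, fun c => ?_, h1⟩
  have := h2 c 1
  rw [mul_one] at this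
  rw [show Ψ (cls φ' 1) = 1 from hone, mul_one] at this
  exact this

end Groth.Agent.SchFinB
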