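import Groth.Agent.SchFinB.AlgBC
/-!
Constructions with etale covers of a finite ringed poset.
-/
universe u
open SchFin TensorProduct CategoryTheory CategoryTheory.Limits
set_option linter.style.haveILetI false
set_option backward.isDefEq.respectTransparency false
noncomputable section

namespace Groth.Agent.SchFinB

variable {X : RSpace.{u}}

theorem qcoh_alg_iff (A : Alg X) : A.IsQcoh ↔
    ∀ (p q : X.pt) (h : p ≤ q), IsBCAlong (X.res h) (algLin (X.res h) (A.res h) (A.res_algebraMap h)) := Iff.rfl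

theorem alg_ext {A : Alg X} (hA : A.IsQcoh) {p q : X.pt} (h : p ≤ q) {T : Type u} [CommRing T]
    (Φ Φ' : A.carrier q →+* T) (h1 : ∀ s, Φ (algebraMap (X.ring q) _ s) = Φ' (algebraMap (X.ring q) _ s))
    (h2 : ∀ a, Φ (A.res h a) = Φ' (A.res h a)) : Φ = Φ' :=
  bcAlg_ext ((qcoh_alg_iff A).1 hA p q h) Φ Φ' h1 h2

theorem alg_lift {A : Alg X} (hA : A.IsQcoh) {p q : X.pt} (h : p ≤ q) {T : Type u} [CommRing T]
    (a : X.ring q →+* T) (b : A.carrier p →+* T) (hab : ∀ x, a (X.res h x) = b (algebraMap (X.ring p) _ x)) :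
    ∃ Φ : A.carrier q →+* T, (∀ s, Φ (algebraMap (X.ring q) _ s) = a s) ∧ ∀ x, Φ (A.res h x) = b x :=
  bcAlg_lift ((qcoh_alg_iff A).1 hA p q h) a b hab

theorem compat' {A B : Alg X} (f : A ⟶ B) {p q : X.pt} (h : p ≤ q) (b : A.carrier p) :
    B.res h (f.app p b) = f.app q (A.res h b) := Alg.Hom.compat f h b

theorem str_qcoh : (Alg.str X).IsQcoh := (qcoh_alg_iff _).2 fun p q h => bcAlg_of_univ
  (fun _ _ Φ Φ' h1 _ => RingHom.ext fun s => h1 s)
  (fun T _ a b hab => ⟨a, fun _ => rfl, fun x => hab x⟩)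

theorem str_isEtCover : (Alg.str X).IsEtCover :=
  ⟨str_qcoh, fun p => ⟨(inferInstanceAs (Module.Finite (X.ring p) (X.ring p))),
    (inferInstanceAs (Algebra.Etale (X.ring p) (X.ring p)))⟩⟩

/-- the unique morphism out of the rings -/
def fromStr (A : Alg X) : Alg.str X ⟶ A :=
  { app := fun p => Algebra.ofId (X.ring p) (A.carrier p)
    compat := fun h b => A.res_algebraMap h b }

theorem fromStr_unique {A : Alg X} (f : Alg.str X ⟶ A) : f = fromStr A :=
  Alg.hom_ext _ _ fun p => AlgHom.ext fun b => (f.app p).commutes b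

/-- the zero algebra -/
def zeroAlg (X : RSpace.{u}) : Alg X where
  carrier _ := PUnit.{u + 1}
  res _ := RingHom.id _
  res_algebraMap _ _ := rfl
  res_self _ _ := rfl
  res_comp _ _ _ := rfl

instance (p : X.pt) : Subsingleton ((zeroAlg X).carrier p) := inferInstanceAs (Subsingleton PUnit.{u + 1})

theorem zero_qcoh : (zeroAlg X).IsQcoh := (qcoh_alg_iff _).2 fun p q h => bcAlg_of_univ
  (fun _ _ Φ Φ' h1 _ => RingHom.ext fun s => by
    rw [Subsingleton.elim s (algebraMap (X.ring q) PUnit.{u + 1} 0)]; exact h1 0)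
  (fun T _ a b hab => ⟨b, fun s => by
    have : Subsingleton T := subsingleton_of_zero_eq_one ((map_zero b).symm.trans ((congrArg b (Subsingleton.elim _ _)).trans (map_one b)))
    exact Subsingleton.elim _ _, fun x => rfl⟩)

theorem zero_isEtCover : (zeroAlg X).IsEtCover :=
  ⟨zero_qcoh, fun p => ⟨(inferInstanceAs (Module.Finite (X.ring p) PUnit.{u + 1})),
    etale_subsingleton (X.ring p) PUnit.{u + 1}⟩⟩

/-- products of algebras -/
def prodAlg (A B : Alg X) : Alg X where
  carrier p := A.carrier p × B.carrier p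
  res h := ((A.res h).comp (RingHom.fst _ _)).prod ((B.res h).comp (RingHom.snd _ _))
  res_algebraMap h a := Prod.ext (A.res_algebraMap h a) (B.res_algebraMap h a)
  res_self p b := Prod.ext (A.res_self p b.1) (B.res_self p b.2)
  res_comp h h' b := Prod.ext (A.res_comp h h' b.1) (B.res_comp h h' b.2)

theorem prod_isEtCover {A B : Alg X} (hA : A.IsEtCover) (hB : B.IsEtCover) : (prodAlg A B).IsEtCover := by
  refine ⟨fun p q h => isBCAlong_prod (hA.1 p q h) (hB.1 p q h) _ fun m => rfl, fun p => ?_⟩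
  haveI := (hA.2 p).1
  haveI := (hB.2 p).1
  haveI := (hA.2 p).2
  haveI := (hB.2 p).2
  exact ⟨(inferInstanceAs (Module.Finite (X.ring p) (A.carrier p × B.carrier p))),
    etale_prod (X.ring p) (A.carrier p) (B.carrier p)⟩

/-- first projection -/
def prodFst (A B : Alg X) : prodAlg A B ⟶ A :=
  { app := fun p => AlgHom.fst (X.ring p) (A.carrier p) (B.carrier p)
    compat := fun _ _ => rfl }

/-- second projection -/
def prodSnd (A B : Alg X) : prodAlg A B ⟶ B :=
  { app := fun p => AlgHom.snd (X.ring p) (A.carrier p) (B.carrier p)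
    compat := fun _ _ => rfl }

/-- a family of compatible idempotents -/
structure Idem (A : Alg X) where
  e : ∀ p, A.carrier p
  idem : ∀ p, IsIdempotentElem (e p)
  compat : ∀ {p q : X.pt} (h : p ≤ q), A.res h (e p) = e q

/-- the complementary family -/
def Idem.compl {A : Alg X} (ε : Idem A) : Idem A where
  e p := 1 - ε.e p
  idem p := (ε.idem p).one_sub
  compat h := by rw [map_sub, map_one, ε.compat]

/-- the ideal cutting out the piece of an idempotent -/
abbrev cutIdeal {A : Alg X} (ε : Idem A) (p : X.pt) : Ideal (A.carrier p) := Ideal.span {1 - ε.e p}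

/-- the piece of an algebra cut out by idempotents -/
def cutAlg (A : Alg X) (ε : Idem A) : Alg X where
  carrier p := A.carrier p ⧸ cutIdeal ε p
  res {p q} h := Ideal.Quotient.lift _ ((Ideal.Quotient.mk (cutIdeal ε q)).comp (A.res h)) fun a ha => by
    obtain ⟨c, rfl⟩ := Ideal.mem_span_singleton'.1 ha
    rw [RingHom.comp_apply, Ideal.Quotient.eq_zero_iff_mem, map_mul, map_sub, map_one, ε.compat]
    exact Ideal.mul_mem_left _ _ (Ideal.mem_span_singleton_self _)
  res_algebraMap {p q} h a := congrArg (Ideal.Quotient.mk (cutIdeal ε q)) (A.res_algebraMap h a)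
  res_self p b := by
    obtain ⟨b, rfl⟩ := Ideal.Quotient.mk_surjective b
    exact congrArg _ (A.res_self p b)
  res_comp {p q s} h h' b := by
    obtain ⟨b, rfl⟩ := Ideal.Quotient.mk_surjective b
    exact congrArg _ (A.res_comp h h' b)

/-- the projection to a piece -/
def cutπ (A : Alg X) (ε : Idem A) : A ⟶ cutAlg A ε :=
  { app := fun p => Ideal.Quotient.mkₐ (X.ring p) (cutIdeal ε p)
    compat := fun _ _ => rfl }

theorem bc_cut {R S A B : Type u} [CommRing R] [CommRing S] [CommRing A] [CommRing B] [Algebra R A] [Algebra S B]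
    {g : R →+* S} {r : A →+* B} {hr : ∀ x, r (algebraMap R A x) = algebraMap S B (g x)}
    (h : IsBCAlong g (algLin g r hr)) (e : A) (e' : B) (he : r e = e')
    (r' : A ⧸ Ideal.span {1 - e} →+* B ⧸ Ideal.span {1 - e'})
    (hr' : ∀ x, r' (algebraMap R _ x) = algebraMap S _ (g x))
    (hcomm : ∀ a, r' (Ideal.Quotient.mk _ a) = Ideal.Quotient.mk _ (r a)) :
    IsBCAlong g (algLin g r' hr') := by
  refine bcAlg_of_univ (fun T _ Φ Φ' h1 h2 => Ideal.Quotient.ringHom_ext ?_) (fun T _ a b hab => ?_)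
  · exact bcAlg_ext h _ _ (fun s => h1 s) fun x => by
      have := h2 (Ideal.Quotient.mk _ x)
      rwa [hcomm] at this
  · obtain ⟨Φ, hΦ1, hΦ2⟩ := bcAlg_lift h a (b.comp (Ideal.Quotient.mk _)) fun x => hab x
    have hker : Φ (1 - e') = 0 := by
      rw [← he, ← map_one r, ← map_sub, hΦ2, RingHom.comp_apply,
        Ideal.Quotient.eq_zero_iff_mem.2 (Ideal.mem_span_singleton_self _), map_zero]
    refine ⟨Ideal.Quotient.lift _ Φ fun z hz => ?_, hΦ1, fun x => ?_⟩
    · obtain ⟨c, rfl⟩ := Ideal.mem_span_singleton'.1 hz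
      rw [map_mul, hker, mul_zero]
    · obtain ⟨x, rfl⟩ := Ideal.Quotient.mk_surjective x
      rw [hcomm, Ideal.Quotient.lift_mk, hΦ2]; rfl

theorem cut_isEtCover {A : Alg X} (hA : A.IsEtCover) (ε : Idem A) : (cutAlg A ε).IsEtCover := by
  refine ⟨(qcoh_alg_iff _).2 fun p q h => bc_cut ((qcoh_alg_iff A).1 hA.1 p q h) _ _ (ε.compat h) _ _ fun _ => rfl,
    fun p => ?_⟩
  haveI := (hA.2 p).1
  haveI := (hA.2 p).2
  haveI := IsLocalization.Away.quotient_of_isIdempotentElem (ε.idem p)
  haveI : Algebra.Etale (A.carrier p) (A.carrier p ⧸ cutIdeal ε p) := Algebra.Etale.of_isLocalizationAway (ε.e p)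
  exact ⟨(inferInstanceAs (Module.Finite (X.ring p) (A.carrier p ⧸ cutIdeal ε p))),
    Algebra.Etale.comp (X.ring p) (A.carrier p) (A.carrier p ⧸ cutIdeal ε p)⟩

theorem mk_eq_zero_iff {A : Alg X} (ε : Idem A) (p : X.pt) (a : A.carrier p) :
    (cutπ A ε).app p a = 0 ↔ a * ε.e p = 0 := by
  show Ideal.Quotient.mk (cutIdeal ε p) a = 0 ↔ _
  rw [Ideal.Quotient.eq_zero_iff_mem]
  constructor
  · intro h
    obtain ⟨c, rfl⟩ := Ideal.mem_span_singleton'.1 h
    rw [mul_assoc, (ε.idem p).one_sub_mul_self, mul_zero]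
  · exact fun h => Ideal.mem_span_singleton'.2 ⟨a, by rw [mul_sub, mul_one, h, sub_zero]⟩

theorem cutπ_pair_bijective (A : Alg X) (ε : Idem A) (p : X.pt) :
    Function.Bijective fun a => ((cutπ A ε).app p a, (cutπ A ε.compl).app p a) := by
  refine ⟨fun a b hab => ?_, fun z => ?_⟩
  · simp only [Prod.mk.injEq] at hab
    have h1 := (mk_eq_zero_iff ε p (a - b)).1 (by rw [map_sub, hab.1, sub_self])
    have h2 := (mk_eq_zero_iff ε.compl p (a - b)).1 (by rw [map_sub, hab.2, sub_self])
    change (a - b) * (1 - ε.e p) = 0 at h2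
    rw [mul_sub, mul_one, h1, sub_zero] at h2
    exact sub_eq_zero.1 h2
  · obtain ⟨b₁, hb₁⟩ := Ideal.Quotient.mk_surjective (I := cutIdeal ε p) z.1
    obtain ⟨b₂, hb₂⟩ := Ideal.Quotient.mk_surjective (I := cutIdeal ε.compl p) z.2
    refine ⟨b₁ * ε.e p + b₂ * (1 - ε.e p), Prod.ext ?_ ?_⟩
    · refine Eq.trans ?_ hb₁
      show (cutπ A ε).app p _ = (cutπ A ε).app p b₁
      rw [← sub_eq_zero, ← map_sub, mk_eq_zero_iff]
      linear_combination (b₁ - b₂) * (ε.idem p).eq
    · refine Eq.trans ?_ hb₂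
      show (cutπ A ε.compl).app p _ = (cutπ A ε.compl).app p b₂
      rw [← sub_eq_zero, ← map_sub, mk_eq_zero_iff]
      show _ * (1 - ε.e p) = 0
      linear_combination (b₂ - b₁) * (ε.idem p).eq

/-- a morphism of covers from a morphism of algebras -/
abbrev homMk {A B : FEt X} (f : A.obj ⟶ B.obj) : A ⟶ B := ObjectProperty.homMk f

theorem fet_hom_ext {A B : FEt X} (f g : A ⟶ B) (h : ∀ p a, f.hom.app p a = g.hom.app p a) : f = g :=
  ObjectProperty.hom_ext _ (Alg.hom_ext _ _ fun p => AlgHom.ext (h p))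

theorem fet_comp_app {A B C : FEt X} (f : A ⟶ B) (g : B ⟶ C) (p : X.pt) (a : A.obj.carrier p) :
    (f ≫ g).hom.app p a = g.hom.app p (f.hom.app p a) := rfl

/-- a pointwise bijective pair of morphisms is a product -/
theorem nonempty_isLimit_fan {A B D : FEt X} (f : A ⟶ B) (π : A ⟶ D)
    (hb : ∀ p, Function.Bijective fun a => (f.hom.app p a, π.hom.app p a)) :
    Nonempty (IsLimit (BinaryFan.mk f π)) := by
  let e : ∀ p, A.obj.carrier p ≃ₐ[X.ring p] B.obj.carrier p × D.obj.carrier p :=
    fun p => AlgEquiv.ofBijective ((f.hom.app p).prod (π.hom.app p)) (hb p)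
  let lift : ∀ s : BinaryFan B D, s.pt ⟶ A := fun s => homMk
    { app := fun p => (e p).symm.toAlgHom.comp ((s.fst.hom.app p).prod (s.snd.hom.app p))
      compat := fun {p q} h c => by
        apply (hb q).1
        have k1 : ∀ (p : X.pt) c, f.hom.app p ((e p).symm (s.fst.hom.app p c, s.snd.hom.app p c)) = s.fst.hom.app p c :=
          fun p c => congrArg Prod.fst ((e p).apply_symm_apply (s.fst.hom.app p c, s.snd.hom.app p c))
        have k2 : ∀ (p : X.pt) c, π.hom.app p ((e p).symm (s.fst.hom.app p c, s.snd.hom.app p c)) = s.snd.hom.app p c :=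
          fun p c => congrArg Prod.snd ((e p).apply_symm_apply (s.fst.hom.app p c, s.snd.hom.app p c))
        refine Prod.ext ?_ ?_
        · refine (compat' f.hom h _).symm.trans ((congrArg _ (k1 p c)).trans ?_)
          exact (compat' s.fst.hom h c).trans (k1 q _).symm
        · refine (compat' π.hom h _).symm.trans ((congrArg _ (k2 p c)).trans ?_)
          exact (compat' s.snd.hom h c).trans (k2 q _).symm }
  refine ⟨BinaryFan.isLimitMk lift (fun s => fet_hom_ext _ _ fun p c => ?_) (fun s => fet_hom_ext _ _ fun p c => ?_)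
    fun s m h1 h2 => fet_hom_ext _ _ fun p c => (hb p).1 (Prod.ext ?_ ?_)⟩
  · exact congrArg Prod.fst ((e p).apply_symm_apply (s.fst.hom.app p c, s.snd.hom.app p c))
  · exact congrArg Prod.snd ((e p).apply_symm_apply (s.fst.hom.app p c, s.snd.hom.app p c))
  · refine Eq.trans ?_ (congrArg Prod.fst ((e p).apply_symm_apply (s.fst.hom.app p c, s.snd.hom.app p c))).symm
    rw [← h1]; rfl
  · refine Eq.trans ?_ (congrArg Prod.snd ((e p).apply_symm_apply (s.fst.hom.app p c, s.snd.hom.app p c))).symm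
    rw [← h2]; rfl

theorem hasTerminal : HasTerminal (FEt X) := by
  let Z : FEt X := ⟨zeroAlg X, zero_isEtCover⟩
  let toZ : ∀ A : FEt X, A ⟶ Z := fun A => homMk
    { app := fun p =>
        { toFun := fun _ => PUnit.unit
          map_one' := rfl
          map_mul' := fun _ _ => rfl
          map_zero' := rfl
          map_add' := fun _ _ => rfl
          commutes' := fun _ => rfl }
      compat := fun _ _ => rfl }
  exact IsTerminal.hasTerminal (IsTerminal.ofUniqueHom (Y := Z) toZ fun A m =>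
    fet_hom_ext _ _ fun p a => Subsingleton.elim (α := PUnit.{u + 1}) _ _)

theorem hasBinaryProducts : HasBinaryProducts (FEt X) := by
  haveI : ∀ {A B : FEt X}, HasLimit (pair A B) := fun {A B} => by
    obtain ⟨h⟩ := nonempty_isLimit_fan (A := (⟨prodAlg A.obj B.obj, prod_isEtCover A.2 B.2⟩ : FEt X)) (B := A) (D := B)
      (homMk (prodFst A.obj B.obj)) (homMk (prodSnd A.obj B.obj)) fun p => Function.bijective_id
    exact ⟨⟨_, h⟩⟩
  exact hasBinaryProducts_of_hasLimit_pair _

theorem bc_injective {R S M N M' N' : Type u} [CommRing R] [CommRing S] [AddCommGroup M] [AddCommGroup N]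
    [AddCommGroup M'] [AddCommGroup N'] [Module R M] [Module S N] [Module R M'] [Module S N'] {g : R →+* S}
    (hg : g.Flat) {f : M →ₛₗ[g] N} {f' : M' →ₛₗ[g] N'} (h : IsBCAlong g f) (h' : IsBCAlong g f')
    (ψ : M →ₗ[R] M') (hψ : Function.Injective ψ) (Ψ : N →ₗ[S] N') (hc : ∀ m, Ψ (f m) = f' (ψ m)) :
    Function.Injective Ψ := by
  letI : Algebra R S := g.toAlgebra
  letI : Module R N := Module.compHom N g
  letI : Module R N' := Module.compHom N' g
  haveI : IsScalarTower R S N := IsScalarTower.of_algebraMap_smul fun _ _ => rfl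
  haveI : IsScalarTower R S N' := IsScalarTower.of_algebraMap_smul fun _ _ => rfl
  haveI : Module.Flat R S := hg
  let l : M →ₗ[R] N := { toFun := f, map_add' := f.map_add, map_smul' := f.map_smulₛₗ }
  let l' : M' →ₗ[R] N' := { toFun := f', map_add' := f'.map_add, map_smul' := f'.map_smulₛₗ }
  have hl : IsBaseChange S l := h
  have hl' : IsBaseChange S l' := h'
  have key : ∀ z, Ψ (hl.equiv z) = hl'.equiv (ψ.lTensor S z) := fun z => by
    induction z using TensorProduct.induction_on with
    | zero => simp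
    | tmul s m =>
      rw [hl.equiv_tmul, LinearMap.lTensor_tmul, hl'.equiv_tmul, map_smul]
      exact congrArg (s • ·) (hc m)
    | add z w hz hw => rw [map_add, map_add, map_add, map_add, hz, hw]
  intro a b hab
  rw [← hl.equiv.apply_symm_apply a, ← hl.equiv.apply_symm_apply b, key, key] at hab
  exact hl.equiv.symm.injective (Module.Flat.lTensor_preserves_injective_linearMap ψ hψ (hl'.equiv.injective hab))

theorem exists_idem_ker {R A B : Type u} [CommRing R] [CommRing A] [CommRing B] [Algebra R A] [Algebra R B]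
    [Module.Finite R A] [Algebra.Etale R A] [Module.Finite R B] [Algebra.Etale R B] (φ : A →ₐ[R] B) :
    ∃ e : A, IsIdempotentElem e ∧ ∀ a, φ a = 0 ↔ a * e = 0 := by
  letI := φ.toRingHom.toAlgebra
  haveI : IsScalarTower R A B := IsScalarTower.of_algebraMap_eq fun x => (φ.commutes x).symm
  haveI : Module.Finite A B := Module.Finite.of_restrictScalars_finite R A B
  haveI : Module.FinitePresentation R B := Module.FinitePresentation.of_finite_of_finitePresentation R B
  haveI : Module.Projective R B := Module.Flat.projective_of_finitePresentation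
  haveI : Module.Projective A B := Algebra.FormallyUnramified.projective_of_restrictScalars R A B
  obtain ⟨e, he, h⟩ := exists_idem_annihilator A B
  refine ⟨e, he, fun a => ?_⟩
  rw [← h]
  refine ⟨fun h0 m => ?_, fun h0 => ?_⟩
  · show φ a * m = 0
    rw [h0, zero_mul]
  · have : φ a * 1 = 0 := h0 1
    rwa [mul_one] at this

theorem exists_idem_of_hom (hX : X.IsFinSp) {A B : Alg X} (hA : A.IsEtCover) (hB : B.IsEtCover) (f : A ⟶ B) :
    ∃ ε : Idem A, ∀ p a, f.app p a = 0 ↔ a * ε.e p = 0 := by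
  choose e he hker using fun p => by
    haveI := (hA.2 p).1
    haveI := (hA.2 p).2
    haveI := (hB.2 p).1
    haveI := (hB.2 p).2
    exact exists_idem_ker (f.app p)
  refine ⟨⟨e, he, fun {p q} h => ?_⟩, hker⟩
  let e' := A.res h (e p)
  have he' : IsIdempotentElem e' := by
    show _ * _ = _
    rw [← map_mul, (he p).eq]
  have h1 : (1 - e') * e q = 0 := (hker q _).1 (by
    rw [← map_one (A.res h), ← map_sub, ← compat' f h, (hker p _).2 ((he p).one_sub_mul_self), map_zero])
  let r' : A.carrier p ⧸ Ideal.span {1 - e p} →+* A.carrier q ⧸ Ideal.span {1 - e'} :=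
    Ideal.Quotient.lift _ ((Ideal.Quotient.mk _).comp (A.res h)) fun a ha => by
      obtain ⟨c, rfl⟩ := Ideal.mem_span_singleton'.1 ha
      rw [RingHom.comp_apply, Ideal.Quotient.eq_zero_iff_mem, map_mul, map_sub, map_one]
      exact Ideal.mul_mem_left _ _ (Ideal.mem_span_singleton_self _)
  have hbc := bc_cut ((qcoh_alg_iff A).1 hA.1 p q h) (e p) e' rfl r'
    (fun x => congrArg (Ideal.Quotient.mk _) (A.res_algebraMap h x)) fun _ => rfl
  let ψ : (A.carrier p ⧸ Ideal.span {1 - e p}) →ₐ[X.ring p] B.carrier p :=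
    Ideal.Quotient.liftₐ _ (f.app p) fun a ha => by
      obtain ⟨c, rfl⟩ := Ideal.mem_span_singleton'.1 ha
      rw [map_mul, (hker p _).2 ((he p).one_sub_mul_self), mul_zero]
  let Ψ : (A.carrier q ⧸ Ideal.span {1 - e'}) →ₐ[X.ring q] B.carrier q :=
    Ideal.Quotient.liftₐ _ (f.app q) fun a ha => by
      obtain ⟨c, rfl⟩ := Ideal.mem_span_singleton'.1 ha
      rw [map_mul, (hker q _).2 h1, mul_zero]
  have hψ : Function.Injective ψ := (injective_iff_map_eq_zero ψ).2 fun z hz => by
    obtain ⟨a, rfl⟩ := Ideal.Quotient.mk_surjective z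
    exact Ideal.Quotient.eq_zero_iff_mem.2 (Ideal.mem_span_singleton'.2 ⟨a, by
      rw [mul_sub, mul_one, (hker p a).1 hz, sub_zero]⟩)
  have hinj : Function.Injective Ψ.toLinearMap :=
    bc_injective (hX.2 p q h) hbc ((qcoh_alg_iff B).1 hB.1 p q h) ψ.toLinearMap hψ Ψ.toLinearMap fun m => by
      obtain ⟨m, rfl⟩ := Ideal.Quotient.mk_surjective m
      exact (compat' f h m).symm
  have h2 : (1 - e q) * e' = 0 := by
    have h3 : Ideal.Quotient.mk (Ideal.span {1 - e'}) (1 - e q) = 0 :=
      hinj (by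
        rw [map_zero]
        exact (hker q _).2 ((he q).one_sub_mul_self))
    obtain ⟨c, hc⟩ := Ideal.mem_span_singleton'.1 (Ideal.Quotient.eq_zero_iff_mem.1 h3)
    rw [← hc, mul_assoc, he'.one_sub_mul_self, mul_zero]
  show e' = e q
  linear_combination h2 - h1

theorem exists_factor (hX : X.IsFinSp) {A B : FEt X} (f : A ⟶ B) :
    ∃ (Q : FEt X) (g : A ⟶ Q) (h : Q ⟶ B), g ≫ h = f ∧ (∀ p : X.pt, Function.Surjective (g.hom.app p)) ∧
      ∀ p : X.pt, Function.Injective (h.hom.app p) := by
  obtain ⟨ε, hε⟩ := exists_idem_of_hom hX A.2 B.2 f.hom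
  let h : cutAlg A.obj ε ⟶ B.obj :=
    { app := fun p => Ideal.Quotient.liftₐ _ (f.hom.app p) fun a ha => by
        obtain ⟨c, rfl⟩ := Ideal.mem_span_singleton'.1 ha
        rw [map_mul, (hε p _).2 (ε.idem p).one_sub_mul_self, mul_zero]
      compat := fun {p q} hpq b => by
        obtain ⟨b, rfl⟩ := Ideal.Quotient.mk_surjective b
        exact compat' f.hom hpq b }
  refine ⟨⟨cutAlg A.obj ε, cut_isEtCover A.2 ε⟩, homMk (cutπ A.obj ε), homMk h, fet_hom_ext _ _ fun p a => rfl,
    fun p => Ideal.Quotient.mk_surjective, fun p => (injective_iff_map_eq_zero _).2 fun z hz => ?_⟩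
  obtain ⟨a, rfl⟩ := Ideal.Quotient.mk_surjective z
  exact (mk_eq_zero_iff ε p a).2 ((hε p a).1 hz)

theorem exists_complement (hX : X.IsFinSp) {A B : FEt X} (f : A ⟶ B) (hf : ∀ p, Function.Surjective (f.hom.app p)) :
    ∃ (D : FEt X) (π : A ⟶ D), Nonempty (IsLimit (BinaryFan.mk f π)) := by
  obtain ⟨ε, hε⟩ := exists_idem_of_hom hX A.2 B.2 f.hom
  refine ⟨⟨cutAlg A.obj ε.compl, cut_isEtCover A.2 ε.compl⟩, homMk (cutπ A.obj ε.compl),
    nonempty_isLimit_fan _ _ fun p => ⟨fun a b hab => ?_, fun z => ?_⟩⟩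
  · simp only [Prod.mk.injEq] at hab
    refine (cutπ_pair_bijective A.obj ε p).1 (Prod.ext ?_ hab.2)
    rw [← sub_eq_zero, ← map_sub, mk_eq_zero_iff, ← hε, map_sub, hab.1, sub_self]
  · obtain ⟨b, hb⟩ := hf p z.1
    obtain ⟨a, ha⟩ := (cutπ_pair_bijective A.obj ε p).2 ((cutπ A.obj ε).app p b, z.2)
    simp only [Prod.mk.injEq] at ha
    refine ⟨a, Prod.ext ?_ ha.2⟩
    show f.hom.app p a = z.1
    rw [← hb, ← sub_eq_zero, ← map_sub, hε, ← mk_eq_zero_iff, map_sub, ha.1, sub_self]

theorem injective_of_mono (hX : X.IsFinSp) {A B : FEt X} (f : A ⟶ B) [Mono f] (p : X.pt) :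
    Function.Injective (f.hom.app p) := by
  obtain ⟨ε, hε⟩ := exists_idem_of_hom hX A.2 B.2 f.hom
  let Q : FEt X := ⟨cutAlg A.obj ε, cut_isEtCover A.2 ε⟩
  let D : FEt X := ⟨cutAlg A.obj ε.compl, cut_isEtCover A.2 ε.compl⟩
  let πQ : A ⟶ Q := homMk (cutπ A.obj ε)
  let πD : A ⟶ D := homMk (cutπ A.obj ε.compl)
  obtain ⟨hl⟩ := nonempty_isLimit_fan πQ πD (cutπ_pair_bijective A.obj ε)
  let C : FEt X := ⟨prodAlg A.obj D.obj, prod_isEtCover A.2 D.2⟩
  let φ₁ : C ⟶ A := homMk (prodFst A.obj D.obj)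
  let φ₂ : C ⟶ A := hl.lift (BinaryFan.mk (φ₁ ≫ πQ) (homMk (prodSnd A.obj D.obj) : C ⟶ D))
  have h1 : φ₂ ≫ πQ = φ₁ ≫ πQ := hl.fac _ ⟨WalkingPair.left⟩
  have h2 : φ₂ ≫ πD = homMk (prodSnd A.obj D.obj) := hl.fac _ ⟨WalkingPair.right⟩
  have h3 : φ₂ = φ₁ := (cancel_mono f).1 (fet_hom_ext _ _ fun q c => by
    rw [fet_comp_app, fet_comp_app, ← sub_eq_zero, ← map_sub, hε, ← mk_eq_zero_iff, map_sub, sub_eq_zero]
    exact congrArg (fun m : C ⟶ Q => m.hom.app q c) h1)
  rw [h3] at h2
  refine (injective_iff_map_eq_zero _).2 fun a ha => ?_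
  have h4 : (cutπ A.obj ε).app p a = 0 := (mk_eq_zero_iff ε p a).2 ((hε p a).1 ha)
  have h5 : (cutπ A.obj ε.compl).app p a = 0 := congrArg (fun m : C ⟶ D => m.hom.app p (a, 0)) h2
  exact (cutπ_pair_bijective A.obj ε p).1 (Prod.ext (h4.trans (map_zero _).symm) (h5.trans (map_zero _).symm))

/-- tensor products over a third algebra -/
def tensAlg {A B C : Alg X} (f : C ⟶ A) (g : C ⟶ B) : Alg X :=
  letI : ∀ p, Algebra (C.carrier p) (A.carrier p) := fun p => (f.app p).toRingHom.toAlgebra
  letI : ∀ p, Algebra (C.carrier p) (B.carrier p) := fun p => (g.app p).toRingHom.toAlgebra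
  haveI : ∀ p, IsScalarTower (X.ring p) (C.carrier p) (A.carrier p) :=
    fun p => IsScalarTower.of_algebraMap_eq fun x => ((f.app p).commutes x).symm
  { carrier := fun p => A.carrier p ⊗[C.carrier p] B.carrier p
    res := fun {p q} h =>
      letI : Algebra (C.carrier p) (A.carrier q ⊗[C.carrier q] B.carrier q) :=
        ((algebraMap (C.carrier q) _).comp (C.res h)).toAlgebra
      (Algebra.TensorProduct.productMap
        (R := C.carrier p) (S := A.carrier q ⊗[C.carrier q] B.carrier q)
        { toRingHom := (Algebra.TensorProduct.includeLeftRingHom).comp (A.res h)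
          commutes' := fun c => by
            show A.res h (f.app p c) ⊗ₜ[C.carrier q] (1 : B.carrier q) =
              algebraMap (C.carrier q) (A.carrier q) (C.res h c) ⊗ₜ[C.carrier q] (1 : B.carrier q)
            rw [compat' f h c]; rfl }
        { toRingHom := (Algebra.TensorProduct.includeRight.toRingHom).comp (B.res h)
          commutes' := fun c => by
            show (1 : A.carrier q) ⊗ₜ[C.carrier q] B.res h (g.app p c) =
              algebraMap (C.carrier q) (A.carrier q) (C.res h c) ⊗ₜ[C.carrier q] (1 : B.carrier q)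
            rw [compat' g h c, Algebra.algebraMap_eq_smul_one, TensorProduct.smul_tmul, Algebra.smul_def, mul_one]
            rfl }).toRingHom
    res_algebraMap := fun {p q} h a => by
      show A.res h (algebraMap _ _ a) ⊗ₜ[C.carrier q] (1 : B.carrier q) * ((1 : A.carrier q) ⊗ₜ[C.carrier q] B.res h 1) =
        algebraMap (X.ring q) (A.carrier q) (X.res h a) ⊗ₜ[C.carrier q] (1 : B.carrier q)
      rw [Algebra.TensorProduct.tmul_mul_tmul, mul_one, one_mul, map_one, A.res_algebraMap]
    res_self := fun p z => by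
      induction z using TensorProduct.induction_on with
      | zero => exact map_zero _
      | tmul a b =>
        show A.res le_rfl a ⊗ₜ[C.carrier p] (1 : B.carrier p) * ((1 : A.carrier p) ⊗ₜ[C.carrier p] B.res le_rfl b) = _
        rw [Algebra.TensorProduct.tmul_mul_tmul, mul_one, one_mul, A.res_self, B.res_self]
      | add z w hz hw => exact (map_add _ z w).trans (by rw [hz, hw])
    res_comp := fun {p q s} h h' z => by
      induction z using TensorProduct.induction_on with
      | zero => rw [map_zero, map_zero, map_zero]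
      | tmul a b =>
        simp only [AlgHom.toRingHom_eq_coe, RingHom.coe_coe, Algebra.TensorProduct.productMap_apply_tmul, AlgHom.coe_mk,
          RingHom.comp_apply, Algebra.TensorProduct.includeLeftRingHom_apply, Algebra.TensorProduct.includeRight_apply,
          Algebra.TensorProduct.tmul_mul_tmul, mul_one, one_mul, A.res_comp, B.res_comp]
      | add z w hz hw => rw [map_add, map_add, map_add, hz, hw] }

end Groth.Agent.SchFinB
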